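import Mathlib
import Cfsg.Prelude.Def_LieTypeChar
import Cfsg.Agent.Schreier.ClassPSp
import Cfsg.Agent.ClassicalGeometry.SympAutOddA
import Cfsg.Agent.LieRecognition.FieldSemilinear
import Cfsg.Agent.H71.FldAut
import Cfsg.Agent.S2600
import Cfsg.Agent.S2601
import Cfsg.Agent.S2602
import Cfsg.Agent.S2603
import Cfsg.Agent.S2604
import Cfsg.Agent.S2605
import Cfsg.Agent.S2606
import Cfsg.Agent.S2608
import Cfsg.Agent.S2126
import Cfsg.Agent.S2128
import Cfsg.Agent.TID.KD.Base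

/-!
# TID, row KDef: the groups whose outer automorphism group has `p`-rank at most one (helper2)
-/

set_option autoImplicit false
set_option linter.unusedSectionVars false

namespace Cfsg.Agent.TID.KD

universe u v w

variable {p : ℕ} [Fact p.Prime]

/-! ### generalities -/

theorem rk1_zmod {f : ℕ} (hf : f ≠ 0) : Rk1 p (Multiplicative (ZMod f)) := by
  have : NeZero f := ⟨hf⟩
  exact rk1_of_cyclic

theorem rk1_ringAut (F : Type w) [Field F] [Finite F] : Finite (F ≃+* F) ∧ IsCyclic (F ≃+* F) :=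
  ⟨Finite.of_injective (fun e : F ≃+* F => (e : F → F)) DFunLike.coe_injective,
    Cfsg.Agent.LieRecognition.FieldSemilinear.isCyclic_ringAut F⟩

theorem rk1_of_semi {Γ : Type u} {O : Type v} {A : Type w} [Group Γ] [Group O] [Group A] [Finite A] [IsCyclic A]
    (π : Γ →* O) (hπ : Function.Surjective π) (s : Γ →* A) {N : ℕ} (hN : ¬ p ∣ N)
    (h : ∀ g, s g = 1 → π g ^ N = 1) : Rk1 p O := by
  have hn : (s.ker.map π).Normal := Subgroup.Normal.map inferInstance π hπ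
  let e := QuotientGroup.quotientKerEquivRange s
  have h1 : Finite (Γ ⧸ s.ker) := Finite.of_equiv _ e.symm.toEquiv
  have h2 : IsCyclic (Γ ⧸ s.ker) := isCyclic_of_surjective e.symm e.symm.surjective
  let f : Γ ⧸ s.ker →* O ⧸ s.ker.map π := QuotientGroup.map _ _ π (Subgroup.le_comap_map _ _)
  have hf : Function.Surjective f := by
    intro y
    obtain ⟨y, rfl⟩ := QuotientGroup.mk_surjective y
    obtain ⟨g, rfl⟩ := hπ y
    exact ⟨QuotientGroup.mk g, rfl⟩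
  have h3 : Finite (O ⧸ s.ker.map π) := Finite.of_surjective f hf
  have h4 : IsCyclic (O ⧸ s.ker.map π) := isCyclic_of_surjective f hf
  refine (rk1_of_cyclic (A := O ⧸ s.ker.map π)).of_hom (QuotientGroup.mk' _) fun a ha h5 => ?_
  obtain ⟨g, hg, rfl⟩ := (QuotientGroup.eq_one_iff _).1 h5
  by_contra h6
  apply hN
  rw [← orderOf_eq_prime ha h6]
  exact orderOf_dvd_of_pow_eq_one (h g hg)

theorem not_dvd_pred {f : ℕ} (hf : f ≠ 0) : ¬ p ∣ p ^ f - 1 := by
  intro h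
  have hp : p.Prime := Fact.out
  have h1 : p ∣ p ^ f := dvd_pow_self p hf
  have h2 : 1 ≤ p ^ f := Nat.one_le_pow _ _ hp.pos
  have h3 : p ∣ p ^ f - (p ^ f - 1) := Nat.dvd_sub h1 h
  rw [Nat.sub_sub_self h2] at h3
  exact hp.one_lt.ne' (Nat.dvd_one.1 h3)

theorem not_dvd_succ {f : ℕ} (hf : f ≠ 0) : ¬ p ∣ p ^ f + 1 := by
  intro h
  have hp : p.Prime := Fact.out
  exact hp.one_lt.ne' (Nat.dvd_one.1 ((Nat.dvd_add_right (dvd_pow_self p hf)).1 h))

theorem not_dvd_two_pow (hp : p ≠ 2) (k : ℕ) : ¬ p ∣ 2 ^ k := fun h =>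
  hp ((Nat.prime_dvd_prime_iff_eq Fact.out Nat.prime_two).1 ((Fact.out : p.Prime).dvd_of_dvd_pow h))

theorem triv_two (hp : p ≠ 2) (a : Multiplicative (ZMod 2)) (ha : a ^ p = 1) : a = 1 :=
  eq_one_of_card (by
    rw [Nat.card_eq_fintype_card, Fintype.card_multiplicative, ZMod.card]
    exact not_dvd_two_pow hp 1) a ha

theorem triv_dih (hp : p ≠ 2) (a : DihedralGroup 4) (ha : a ^ p = 1) : a = 1 :=
  eq_one_of_card (by
    rw [DihedralGroup.nat_card]
    exact not_dvd_two_pow hp 3) a ha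

theorem triv_perm (hp : p ≠ 2) (h3 : p ≠ 3) (a : Equiv.Perm (Fin 4)) (ha : a ^ p = 1) : a = 1 :=
  eq_one_of_card (by
    rw [Nat.card_eq_fintype_card, Fintype.card_perm, Fintype.card_fin]
    intro h
    rcases (Nat.Prime.dvd_mul Fact.out (m := 2 ^ 3) (n := 3)).1 h with h1 | h1
    · exact not_dvd_two_pow hp 3 h1
    · exact h3 ((Nat.prime_dvd_prime_iff_eq Fact.out Nat.prime_three).1 h1)) a ha

theorem rk1_two_left (hp : p ≠ 2) {B : Type w} [AddGroup B] (hB : Rk1 p (Multiplicative B)) :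
    Rk1 p (Multiplicative (ZMod 2 × B)) :=
  (hB.prod_left (triv_two hp)).of_equiv (MulEquiv.prodMultiplicative _ _)

theorem card_eq (F : Type w) [Field F] [Fintype F] (p : ℕ) [CharP F p] : ∃ f, 1 ≤ f ∧ Fintype.card F = p ^ f := by
  obtain ⟨n, -, hn⟩ := FiniteField.card F p
  exact ⟨n, n.2, hn⟩

/-! ### the rows -/

variable {F : Type w} [Field F] [Fintype F] [CharP F p]

theorem rk1_PSL {n : ℕ} (hn : 2 ≤ n) (h4 : n = 2 → 4 ≤ Fintype.card F) (hp : p ≠ 2) :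
    Rk1 p (Cfsg.Out (Matrix.ProjectiveSpecialLinearGroup (Fin n) F)) := by
  obtain ⟨f, hf, hF⟩ := card_eq F p
  have hf0 : f ≠ 0 := by omega
  by_cases h2 : n = 2
  · subst h2
    obtain ⟨φ, -, -, h1⟩ := Cfsg.Agent.S2602.result hf hF (by rw [← hF]; exact h4 rfl)
    refine (rk1_zmod hf0).of_ker φ fun h => not_dvd_pred (p := p) hf0 ?_
    rw [h1] at h
    exact h.trans (Nat.gcd_dvd_right _ _)
  · obtain ⟨φ, -, -, h1⟩ := Cfsg.Agent.S2601.result (n := n) hf hF (by omega)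
    refine (((rk1_zmod hf0).prod_right (triv_two hp)).of_equiv (MulEquiv.prodMultiplicative _ _)).of_ker φ
      fun h => not_dvd_pred (p := p) hf0 ?_
    rw [h1] at h
    exact h.trans (Nat.gcd_dvd_right _ _)

theorem rk1_PSU {n q : ℕ} (hK : Fintype.card F = q ^ 2) (hn : 3 ≤ n) (h32 : ¬ (n = 3 ∧ q = 2)) :
    Rk1 p (Cfsg.Out (PSU n F q)) := by
  obtain ⟨f', hf', hF⟩ := card_eq F p
  have h1 : q ∣ p ^ f' := by
    rw [← hF, hK]
    exact dvd_pow_self q two_ne_zero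
  obtain ⟨f, -, hq⟩ := (Nat.dvd_prime_pow Fact.out).1 h1
  have hf0 : f ≠ 0 := by
    rintro rfl
    have h2 := Fintype.one_lt_card (α := F)
    rw [hK, hq] at h2
    simp at h2
  obtain ⟨φ, -, -, h2⟩ := Cfsg.Agent.S2603.result (p := p) (f := f) (by omega) hq hK hn h32
  refine (rk1_zmod (by omega)).of_ker φ fun h => not_dvd_succ (p := p) hf0 ?_
  rw [h2, hq] at h
  exact h.trans (Nat.gcd_dvd_right _ _)

theorem rk1_OOdd {m : ℕ} (hm : 3 ≤ m) (ho : Odd (Fintype.card F)) : Rk1 p (Cfsg.Out (POmega F (quadFormOdd m F))) := by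
  obtain ⟨f, hf, hF⟩ := card_eq F p
  have hp : p ≠ 2 := by
    rintro rfl
    rw [hF] at ho
    exact Nat.not_even_iff_odd.2 ho ((Nat.even_pow' (by omega)).2 even_two)
  obtain ⟨e⟩ := Cfsg.Agent.S2604.result hf hF hp hm
  exact (rk1_two_left hp (rk1_zmod (by omega))).of_equiv e

theorem rk1_OMinus {m : ℕ} (hm : 4 ≤ m) (a b : F)
    (hab : ∀ z₁ z₂ : F, z₁ ^ 2 + a * z₁ * z₂ + b * z₂ ^ 2 = 0 → z₁ = 0 ∧ z₂ = 0) :
    Rk1 p (Cfsg.Out (POmega F (quadFormMinus (m - 1) F a b))) := by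
  obtain ⟨f, hf, hF⟩ := card_eq F p
  by_cases hp : p = 2
  · subst hp
    obtain ⟨h1, h2⟩ := Cfsg.Agent.S2605.result hf hF hm a b hab
    have : Finite (Cfsg.Out (POmega F (quadFormMinus (m - 1) F a b))) := Nat.finite_of_card_ne_zero (by omega)
    exact rk1_of_cyclic
  · have h1 := Cfsg.Agent.S2606.result hf hF hp hm a b hab
    split_ifs at h1
    · obtain ⟨e⟩ := h1
      exact ((rk1_zmod (by omega)).prod_left (triv_dih hp)).of_equiv e
    · obtain ⟨e⟩ := h1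
      exact (rk1_two_left hp (rk1_zmod (by omega))).of_equiv e

theorem rk1_OPlus {m : ℕ} (hm : 4 ≤ m) (hp : p ≠ 2) (h3 : m = 4 → p ≠ 3) :
    Rk1 p (Cfsg.Out (POmega F (quadFormPlus m F))) := by
  obtain ⟨f, hf, hF⟩ := card_eq F p
  have h1 := Cfsg.Agent.S2608.result hf hF hp hm
  split_ifs at h1 with h4
  · obtain ⟨e⟩ := h1
    exact ((rk1_zmod (by omega)).prod_left (triv_perm hp (h3 h4))).of_equiv e
  · obtain ⟨e⟩ := h1
    exact (rk1_two_left hp (rk1_two_left hp (rk1_zmod (by omega)))).of_equiv e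
  · obtain ⟨e⟩ := h1
    exact ((rk1_zmod (by omega)).prod_left (triv_dih hp)).of_equiv e

section PSp

open Cfsg.Agent.ClassicalGeometry.SympAutSemi Cfsg.Agent.Schreier.ClassPSp

theorem field_unique {F : Type w} [Field F] {m : ℕ} (hm : 1 ≤ m) {g : Equiv.Perm (Fin m ⊕ Fin m → F)} {φ ψ : F ≃+* F}
    {l k : F} (h1 : IsSemi g φ l) (h2 : IsSemi g ψ k) : φ = ψ := by
  have hv : (Pi.single (Sum.inl ⟨0, hm⟩) 1 : Fin m ⊕ Fin m → F) ≠ 0 := by
    intro h
    have := congrFun h (Sum.inl ⟨0, hm⟩)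
    simp at this
  have h0 : g 0 = 0 := by
    have h3 := h1.2.1 0 0
    rwa [zero_smul, map_zero φ, zero_smul] at h3
  have hgv : g (Pi.single (Sum.inl ⟨0, hm⟩) 1) ≠ 0 := fun h => hv (g.injective (h.trans h0.symm))
  ext a
  exact smul_left_injective F hgv ((h1.2.1 a _).symm.trans (h2.2.1 a _))

theorem semi_pow {F : Type w} [Field F] {m : ℕ} {g : Equiv.Perm (Fin m ⊕ Fin m → F)} {l : F}
    (h : IsSemi g (RingEquiv.refl F) l) (k : ℕ) : IsSemi (g ^ k) (RingEquiv.refl F) (l ^ k) := by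
  induction k with
  | zero => exact ⟨fun _ _ => rfl, fun _ _ => rfl, fun _ _ => by rw [pow_zero, pow_zero, one_mul]; rfl⟩
  | succ k ih =>
    rw [pow_succ, pow_succ]
    exact ih.mul h

theorem rk1_PSp {m : ℕ} (hm : 2 ≤ m) : Rk1 p (Cfsg.Out (PSp m F)) := by
  obtain ⟨f, hf, hF⟩ := card_eq F p
  by_cases hc : m = 2 ∧ p = 2
  · obtain ⟨rfl, rfl⟩ := hc
    obtain ⟨h1, h2⟩ := Cfsg.Agent.S2600.result hf hF
    have : Finite (Cfsg.Out (PSp 2 F)) := Nat.finite_of_card_ne_zero (by omega)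
    exact rk1_of_cyclic
  have hc' : 3 ≤ m ∨ (2 : F) ≠ 0 := by
    by_cases h2 : m = 2
    · right
      intro h3
      have h4 : p ∣ 2 := (CharP.cast_eq_zero_iff F p 2).1 (by exact_mod_cast h3)
      exact hc ⟨h2, (Nat.prime_dvd_prime_iff_eq Fact.out Nat.prime_two).1 h4⟩
    · left
      omega
  have hs : Function.Surjective ((QuotientGroup.mk' (Cfsg.Inn (PSp m F))).comp (Psi m F)) :=
    (QuotientGroup.mk'_surjective _).comp fun α => Cfsg.Agent.ClassicalGeometry.SympAutExists.exists_semi hm α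
      (Cfsg.Agent.ClassicalGeometry.SympAutOddA.recog hm hc' α)
  have h1 : ∀ g : semiSim m F, ∃ (φ : F ≃+* F) (l : F), l ≠ 0 ∧ IsSemi g.1 φ l := fun g => g.2
  choose φ l hl hg using h1
  have hmul : ∀ a b, φ (a * b) = φ a * φ b := fun a b => field_unique (by omega) (hg (a * b)) ((hg a).mul (hg b))
  obtain ⟨_, _⟩ := rk1_ringAut F
  refine rk1_of_semi _ hs (MonoidHom.mk' φ hmul) (not_dvd_pred (p := p) (f := f) (by omega)) fun g h2 => ?_
  have h3 : φ g = RingEquiv.refl F := h2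
  have h4 := hg g
  rw [h3] at h4
  have h5 := semi_pow h4 (p ^ f - 1)
  rw [← hF, FiniteField.pow_card_sub_one_eq_one _ (hl g)] at h5
  rw [← map_pow, ← hF]
  exact (QuotientGroup.eq_one_iff _).2 (Psi_isom (g := g ^ (Fintype.card F - 1)) h5)

end PSp

theorem rk1_Sz {K : Type w} [Field K] [Fintype K] {m : ℕ} (hm : 1 ≤ m) (hK : Fintype.card K = 2 ^ (2 * m + 1)) :
    Rk1 2 (Cfsg.Out ↥(Lie.Sz K (2 ^ (m + 1)))) :=
  rk1_of_not_dvd (by rw [Cfsg.Agent.S2126.result hm hK]; omega)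

theorem rk1_2F4 {K : Type w} [Field K] [Fintype K] {m : ℕ} (hm : 1 ≤ m) (hK : Fintype.card K = 2 ^ (2 * m + 1)) :
    Rk1 2 (Cfsg.Out ↥(Lie.twistedF4 K (2 ^ m))) :=
  rk1_of_not_dvd (by rw [Cfsg.Agent.S2128.result hm hK]; omega)

theorem rk1_Ree {K : Type w} [Field K] [Fintype K] {m : ℕ} (hm : 1 ≤ m) (hK : Fintype.card K = 3 ^ (2 * m + 1)) :
    Rk1 p (Cfsg.Out ↥(Lie.twistedG2 K (3 ^ m))) := by
  obtain ⟨_, _⟩ := rk1_ringAut K
  let f : (K ≃+* K) →* Cfsg.Out ↥(Lie.twistedG2 K (3 ^ m)) := (QuotientGroup.mk' _).comp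
    (MonoidHom.mk' (fun τ => Cfsg.Agent.S2127.fld τ (3 ^ m)) fun a b => Cfsg.Agent.H71.FldAut.fldG_mul a b _)
  have hf : Function.Surjective f := by
    intro y
    obtain ⟨α, rfl⟩ := QuotientGroup.mk_surjective y
    obtain ⟨g, τ, rfl⟩ := Cfsg.Agent.H71.FldAut.ree_aut hm hK α
    refine ⟨τ, ?_⟩
    have h1 : (QuotientGroup.mk (MulAut.conj g) : Cfsg.Out ↥(Lie.twistedG2 K (3 ^ m))) = 1 :=
      (QuotientGroup.eq_one_iff _).2 ⟨g, rfl⟩
    rw [QuotientGroup.mk_mul, h1, one_mul]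
    rfl
  have h1 : Finite (Cfsg.Out ↥(Lie.twistedG2 K (3 ^ m))) := Finite.of_surjective f hf
  have h2 : IsCyclic (Cfsg.Out ↥(Lie.twistedG2 K (3 ^ m))) := isCyclic_of_surjective f hf
  exact rk1_of_cyclic

end Cfsg.Agent.TID.KD
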