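import Mathlib
import Cfsg.Prelude.Def_KGroupFacts

/-!
# TID, row KDef: groups `p × p` of outer automorphisms with a common centralizer (helper2)

`NoV p Y` : there is no group `V = p × p` of automorphisms of `Y`, meeting the inner automorphisms trivially, whose
non-identity elements all have the same fixed points.
-/

set_option autoImplicit false

namespace Cfsg.Agent.TID.KD

universe u v w

/-- `p`-rank at most one -/
def Rk1 (p : ℕ) (G : Type u) [Group G] : Prop :=
  ∀ a b : G, a * b = b * a → a ^ p = 1 → b ^ p = 1 → a ≠ 1 → b ∈ Subgroup.zpowers a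

/-- elementary abelian of order `p ^ 2` -/
structure PP (p : ℕ) (V : Type v) [Group V] : Prop where
  comm : ∀ a b : V, a * b = b * a
  pow : ∀ a : V, a ^ p = 1
  card : Nat.card V = p ^ 2

/-- outer automorphisms with the same fixed points -/
structure Act {V : Type v} [Group V] {Y : Type u} [Group Y] (φ : V →* MulAut Y) : Prop where
  out : ∀ v y, φ v = MulAut.conj y → v = 1
  fix : ∀ v, v ≠ 1 → ∀ w y, φ v y = y → φ w y = y

/-- the row predicate -/
def NoV (p : ℕ) (Y : Type u) [Group Y] : Prop :=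
  ∀ (V : Type v) [Group V], PP p V → ∀ φ : V →* MulAut Y, Act φ → False

variable {p : ℕ}

theorem PP.finite [Fact p.Prime] {V : Type v} [Group V] (h : PP p V) : Finite V :=
  Nat.finite_of_card_ne_zero (by rw [h.card]; exact pow_ne_zero _ (Fact.out : p.Prime).ne_zero)

theorem PP.isPGroup {V : Type v} [Group V] (h : PP p V) : IsPGroup p V := fun a => ⟨1, by rw [pow_one, h.pow]⟩

/-- a homomorphism with "cyclic" image has a kernel -/
theorem PP.exists_ker [Fact p.Prime] {V : Type v} [Group V] (h : PP p V) {A : Type w} [Group A] (f : V →* A)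
    (hA : ∀ a b : V, f a ≠ 1 → f b ∈ Subgroup.zpowers (f a)) : ∃ v : V, v ≠ 1 ∧ f v = 1 := by
  have hp : p.Prime := Fact.out
  have := h.finite
  by_contra hcon
  push Not at hcon
  have hinj : Function.Injective f := by
    rw [injective_iff_map_eq_one]
    intro a ha
    by_contra h1
    exact hcon a h1 ha
  have hnt : Nontrivial V := by
    rw [← Finite.one_lt_card_iff_nontrivial, h.card]
    exact Nat.one_lt_pow two_ne_zero hp.one_lt
  obtain ⟨a, ha⟩ := exists_ne (1 : V)
  have h1 : Subgroup.zpowers a = ⊤ := by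
    rw [eq_top_iff]
    intro b _
    obtain ⟨k, hk⟩ := hA a b (hcon a ha)
    refine ⟨k, hinj ?_⟩
    rw [map_zpow]
    exact hk
  have h2 : Nat.card (Subgroup.zpowers a) = p := by
    rw [Nat.card_zpowers]
    exact orderOf_eq_prime (h.pow a) ha
  rw [h1, Subgroup.card_top, h.card] at h2
  have h3 := hp.one_lt
  nlinarith

theorem PP.exists_ker' [Fact p.Prime] {V : Type v} [Group V] (h : PP p V) {A : Type w} [Group A] (hA : Rk1 p A)
    (f : V →* A) : ∃ v : V, v ≠ 1 ∧ f v = 1 := by
  refine h.exists_ker f fun a b ha => hA _ _ ?_ ?_ ?_ ha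
  · rw [← map_mul, h.comm, map_mul]
  · rw [← map_pow, h.pow, map_one]
  · rw [← map_pow, h.pow, map_one]

theorem rk1_of_cyclic [Fact p.Prime] {A : Type w} [Group A] [Finite A] [IsCyclic A] : Rk1 p A := by
  classical
  have hp : p.Prime := Fact.out
  intro a b _ ha hb ha1
  have := Fintype.ofFinite A
  have h1 := IsCyclic.card_pow_eq_one_le (α := A) hp.pos
  have h2 : (Finset.univ.filter fun x : A => x ∈ Subgroup.zpowers a) ⊆ Finset.univ.filter fun x : A => x ^ p = 1 := by
    intro x hx
    rw [Finset.mem_filter] at hx ⊢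
    obtain ⟨k, rfl⟩ := hx.2
    refine ⟨hx.1, ?_⟩
    change (a ^ k) ^ p = 1
    rw [← zpow_natCast, ← zpow_mul, mul_comm, zpow_mul, zpow_natCast, ha, one_zpow]
  have h3 : (Finset.univ.filter fun x : A => x ∈ Subgroup.zpowers a).card = p := by
    rw [← Fintype.card_subtype, ← Nat.card_eq_fintype_card]
    change Nat.card (Subgroup.zpowers a) = p
    rw [Nat.card_zpowers]
    exact orderOf_eq_prime ha ha1
  have h4 := Finset.eq_of_subset_of_card_le h2 (by rw [h3]; exact h1)
  have h5 : b ∈ Finset.univ.filter fun x : A => x ^ p = 1 := Finset.mem_filter.2 ⟨Finset.mem_univ _, hb⟩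
  rw [← h4] at h5
  exact (Finset.mem_filter.1 h5).2

/-- pull back along a homomorphism which is injective on the elements of order `p` -/
theorem Rk1.of_hom [Fact p.Prime] {A : Type w} {B : Type u} [Group A] [Group B] (hB : Rk1 p B) (f : A →* B)
    (hf : ∀ a : A, a ^ p = 1 → f a = 1 → a = 1) : Rk1 p A := by
  intro a b hab ha hb ha1
  have h1 : f a ≠ 1 := fun h => ha1 (hf a ha h)
  obtain ⟨k, hk⟩ := hB (f a) (f b) (by rw [← map_mul, hab, map_mul]) (by rw [← map_pow, ha, map_one])
    (by rw [← map_pow, hb, map_one]) h1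
  have hc : Commute (a ^ k) b := (show Commute a b from hab).zpow_left k
  have h2 : (a ^ k * b⁻¹) ^ p = 1 := by
    rw [hc.inv_right.mul_pow, inv_pow, hb, inv_one, mul_one, ← zpow_natCast, ← zpow_mul, mul_comm, zpow_mul,
      zpow_natCast, ha, one_zpow]
  have h3 := hf _ h2 (by
    rw [map_mul, map_inv, map_zpow]
    have hk' : f a ^ k = f b := hk
    rw [hk', mul_inv_cancel])
  exact ⟨k, mul_inv_eq_one.1 h3⟩

theorem eq_one_of_not_dvd [Fact p.Prime] {A : Type w} [Group A] {K : Subgroup A} (hK : ¬ p ∣ Nat.card K) {a : A}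
    (ha : a ^ p = 1) (hm : a ∈ K) : a = 1 := by
  by_contra h1
  apply hK
  have h2 : orderOf (⟨a, hm⟩ : K) = p :=
    orderOf_eq_prime (Subtype.ext ha) (fun h => h1 (congrArg Subtype.val h))
  rw [← h2]
  exact orderOf_dvd_natCard _

theorem Rk1.of_ker [Fact p.Prime] {A : Type w} {B : Type u} [Group A] [Group B] (hB : Rk1 p B) (f : A →* B)
    (hf : ¬ p ∣ Nat.card f.ker) : Rk1 p A :=
  hB.of_hom f fun _ ha h => eq_one_of_not_dvd hf ha h

theorem Rk1.of_equiv [Fact p.Prime] {A : Type w} {B : Type u} [Group A] [Group B] (hB : Rk1 p B) (e : A ≃* B) :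
    Rk1 p A :=
  hB.of_hom e.toMonoidHom fun _ _ h => e.injective (by rw [map_one]; exact h)

/-- a product with a group without elements of order `p` -/
theorem Rk1.prod_left [Fact p.Prime] {A : Type w} {B : Type u} [Group A] [Group B] (hB : Rk1 p B)
    (hA : ∀ a : A, a ^ p = 1 → a = 1) : Rk1 p (A × B) :=
  hB.of_hom (MonoidHom.snd A B) fun a ha h => Prod.ext (hA a.1 (congrArg Prod.fst ha)) h

theorem Rk1.prod_right [Fact p.Prime] {A : Type w} {B : Type u} [Group A] [Group B] (hB : Rk1 p B)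
    (hA : ∀ a : A, a ^ p = 1 → a = 1) : Rk1 p (B × A) :=
  hB.of_hom (MonoidHom.fst B A) fun a ha h => Prod.ext h (hA a.2 (congrArg Prod.snd ha))

theorem eq_one_of_card [Fact p.Prime] {A : Type w} [Group A] (hA : ¬ p ∣ Nat.card A) (a : A) (ha : a ^ p = 1) :
    a = 1 :=
  eq_one_of_not_dvd (K := ⊤) (by rwa [Subgroup.card_top]) ha (Subgroup.mem_top a)

theorem rk1_of_not_dvd [Fact p.Prime] {A : Type w} [Group A] (hA : ¬ p ∣ Nat.card A) : Rk1 p A :=
  fun a _ _ ha _ ha1 => absurd (eq_one_of_card hA a ha) ha1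

/-- transport -/
theorem NoV.of_equiv {Y : Type u} {Y' : Type w} [Group Y] [Group Y'] (h : NoV.{u, v} p Y) (e : Y' ≃* Y) :
    NoV.{w, v} p Y' := by
  intro V _ hV φ hφ
  have hc : ∀ (α : MulAut Y') (y : Y), MulAut.congr e α y = e (α (e.symm y)) := fun _ _ => rfl
  refine h V hV ((MulAut.congr e).toMonoidHom.comp φ) ⟨fun v y hv => hφ.out v (e.symm y) ?_, fun v hv w y hy => ?_⟩
  · ext x
    have h1 : MulAut.congr e (φ v) (e x) = MulAut.conj y (e x) := by rw [← hv]; rfl
    rw [hc, e.symm_apply_apply, MulAut.conj_apply] at h1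
    apply e.injective
    rw [h1, MulAut.conj_apply, map_mul, map_mul, map_inv, e.apply_symm_apply]
  · have h1 : MulAut.congr e (φ v) y = y := hy
    rw [hc] at h1
    have h2 : φ v (e.symm y) = e.symm y := by
      apply e.injective
      rw [h1, e.apply_symm_apply]
    change MulAut.congr e (φ w) y = y
    rw [hc, hφ.fix v hv w _ h2, e.apply_symm_apply]

/-- `Out Y` of `p`-rank at most one -/
theorem noV_of_out [Fact p.Prime] {Y : Type u} [Group Y] (h : Rk1 p (Cfsg.Out Y)) : NoV.{u, v} p Y := by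
  intro V _ hV φ hφ
  obtain ⟨v, hv, h1⟩ := hV.exists_ker' h ((QuotientGroup.mk' (Cfsg.Inn Y)).comp φ)
  have h2 : φ v ∈ Cfsg.Inn Y := (QuotientGroup.eq_one_iff _).1 h1
  obtain ⟨y, hy⟩ := h2
  exact hv (hφ.out v y hy.symm)

end Cfsg.Agent.TID.KD
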