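import Mathlib
import Cfsg.Agent.KFacts.RgdTau
import Cfsg.Agent.Nodes.Unique
import Cfsg.Agent.Nodes.ZFam
import Cfsg.Agent.H936.DSRgd
import Cfsg.Agent.LieRecognition.FieldSemilinear
import Cfsg.Agent.TID.KD.Base

/-!
# TID, row KDef: `NoV` for a group with a root group datum with field coordinates at the nodes (helper2)
-/

set_option autoImplicit false
set_option linter.unusedSectionVars false

namespace Cfsg.Agent.TID.KD

open CoxeterSystem Cfsg.Agent.ChevalleyStructure.CoxeterGeom Cfsg.Agent.Tits.Roots Cfsg.Agent.Tits.Core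
  Cfsg.Agent.Tits.Exchange Cfsg.Agent.Nodes.Reps Cfsg.Agent.Nodes.BNOf Cfsg.Agent.Nodes.StabComb
  Cfsg.Agent.Nodes.Bruhat Cfsg.Agent.Nodes.OppDec Cfsg.Agent.Nodes.Unique
  Cfsg.Agent.KFacts.RgdOpp Cfsg.Agent.KFacts.RgdAut Cfsg.Agent.KFacts.RgdDiag Cfsg.Agent.KFacts.RgdRigid
  Cfsg.Agent.KFacts.RgdField Cfsg.Agent.KFacts.RgdTau

universe u v w

/-! ### one group with coordinates -/

section One

variable {Y : Type u} [Group Y] {F : Type w} [Field F] {T P : Subgroup Y} {x : F → Y} {χ : Y → F} {p : ℕ}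

/-- a set of scalars closed under addition and multiplication by the scalars of the torus -/
theorem all_of_span (C : Coord T P x χ) (S : AddSubgroup F) (hS : ∀ t ∈ T, ∀ a ∈ S, χ t * a ∈ S) {a : F} (ha : a ∈ S)
    (ha0 : a ≠ 0) (b : F) : b ∈ S := by
  have h1 : ∀ s : F, s * a ∈ S := by
    intro s
    have hs : s ∈ AddSubgroup.closure (χ '' (T : Set Y)) := by rw [C.span]; exact AddSubgroup.mem_top s
    induction hs using AddSubgroup.closure_induction with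
    | mem s hs =>
      obtain ⟨t, ht, rfl⟩ := hs
      exact hS t ht a ha
    | zero => rw [zero_mul]; exact S.zero_mem
    | add s s' _ _ h1 h2 => rw [add_mul]; exact S.add_mem h1 h2
    | neg s _ h1 => rw [neg_mul]; exact S.neg_mem h1
  have h2 := h1 (b * a⁻¹)
  rwa [inv_mul_cancel_right₀ ha0] at h2

theorem coord_neg (C : Coord T P x χ) (a : F) : x (-a) = (x a)⁻¹ := by
  rw [eq_inv_iff_mul_eq_one, ← C.add, neg_add_cancel, C.zero]

/-- irreducibility -/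
theorem le_of_mem (C : Coord T P x χ) {H : Subgroup Y} (hH : ∀ t ∈ T, ∀ y ∈ H, t * y * t⁻¹ ∈ H) {z : Y} (hz : z ∈ P)
    (hz1 : z ≠ 1) (hzH : z ∈ H) : P ≤ H := by
  let S : AddSubgroup F :=
    { carrier := {a | x a ∈ H}
      add_mem' := fun {a b} ha hb => by
        change x (a + b) ∈ H
        rw [C.add]
        exact mul_mem ha hb
      zero_mem' := by
        change x 0 ∈ H
        rw [C.zero]
        exact one_mem _
      neg_mem' := fun {a} ha => by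
        change x (-a) ∈ H
        rw [coord_neg C]
        exact inv_mem ha }
  obtain ⟨a, rfl⟩ := (C.mem z).1 hz
  have ha0 : a ≠ 0 := by
    rintro rfl
    exact hz1 C.zero
  intro y hy
  obtain ⟨b, rfl⟩ := (C.mem y).1 hy
  refine all_of_span C S (fun t ht c hc => ?_) (a := a) hzH ha0 b
  change x (χ t * c) ∈ H
  rw [← C.act t ht]
  exact hH t ht _ hc

/-- a `p`-element which acts as a scalar acts trivially -/
theorem triv_of_scalar [Finite Y] [Fact p.Prime] (C : Coord T P x χ) (hP : IsPGroup p P) {β : MulAut Y}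
    (hβ : β ^ p = 1) {c : F} (hc : ∀ a, β (x a) = x (c * a)) (hF : Fix β P) : ∀ y ∈ P, β y = y := by
  have hne : P ≠ ⊥ := by
    intro h
    have h1 : x 1 ∈ P := (C.mem _).2 ⟨1, rfl⟩
    rw [h, Subgroup.mem_bot] at h1
    exact C.ne_one one_ne_zero h1
  obtain ⟨y, hy, hy1, hyf⟩ := exists_fixed (k := 1) (by rwa [pow_one]) hF hP hne
  obtain ⟨a, rfl⟩ := (C.mem y).1 hy
  have ha0 : a ≠ 0 := by
    rintro rfl
    exact hy1 C.zero
  rw [hc] at hyf
  have h1 : c = 1 := mul_right_cancel₀ ha0 ((C.inj hyf).trans (one_mul a).symm)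
  intro z hz
  obtain ⟨b, rfl⟩ := (C.mem z).1 hz
  rw [hc, h1, one_mul]

/-- **the action of `p × p` is not faithful** -/
theorem exists_triv [Finite Y] [Finite F] [Fact p.Prime] (C : Coord T P x χ) (hP : IsPGroup p P) {V : Type v} [Group V]
    (hV : PP p V) (g : V →* MulAut Y) (hT : ∀ v, Fix (g v) T) (hF : ∀ v, Fix (g v) P) :
    ∃ v : V, v ≠ 1 ∧ ∀ y ∈ P, g v y = y := by
  have h1 := fun v => C.exists_semi C (hT v) (hF v)
  choose τ c hc hx hχ using h1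
  have hmul : ∀ a b, τ (a * b) = τ a * τ b := by
    intro a b
    apply C.ext
    intro t ht
    rw [← hχ _ t ht, map_mul, MulAut.mul_apply, hχ a _ ((hT b t).2 ht), hχ b t ht]
    rfl
  have : IsCyclic (F ≃+* F) := Cfsg.Agent.LieRecognition.FieldSemilinear.isCyclic_ringAut F
  have : Finite (F ≃+* F) := Finite.of_injective (fun e : F ≃+* F => (e : F → F)) DFunLike.coe_injective
  obtain ⟨v, hv, h2⟩ := hV.exists_ker' rk1_of_cyclic (MonoidHom.mk' τ hmul)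
  have h3 : τ v = 1 := h2
  refine ⟨v, hv, triv_of_scalar C hP (c := c v) ?_ (fun a => ?_) (hF v)⟩
  · rw [← map_pow, hV.pow, map_one]
  · rw [hx, h3]
    rfl

/-- transport of coordinates -/
theorem coord_conj (C : Coord T P x χ) {k : Y} (hk : k ∈ Subgroup.normalizer (T : Set Y)) :
    Coord T (cj k P) (fun a => k * x a * k⁻¹) (fun t => χ (k⁻¹ * t * k)) where
  mem y := by
    rw [mem_cj, C.mem]
    constructor
    · rintro ⟨a, ha⟩
      exact ⟨a, by rw [ha]; group⟩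
    · rintro ⟨a, rfl⟩
      exact ⟨a, by group⟩
  inj a b hab := C.inj (by
    have h1 : k * x a * k⁻¹ = k * x b * k⁻¹ := hab
    exact mul_left_cancel (mul_right_cancel h1))
  add a b := by rw [C.add]; group
  act t ht a := by
    have h1 : k⁻¹ * t * k ∈ T := by
      have := (Subgroup.mem_normalizer_iff.1 (inv_mem hk) t).1 ht
      rwa [inv_inv] at this
    rw [← C.act _ h1]
    group
  span := by
    rw [← top_le_iff, ← C.span]
    apply AddSubgroup.closure_mono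
    rintro _ ⟨t, ht, rfl⟩
    refine ⟨k * t * k⁻¹, (Subgroup.mem_normalizer_iff.1 hk t).1 ht, ?_⟩
    change χ (k⁻¹ * (k * t * k⁻¹) * k) = χ t
    congr 1
    group

end One

/-! ### diagrams -/

section Diagram

variable {I : Type*}

/-- `J` is closed under simple edges -/
def Cl (M : CoxeterMatrix I) (J : Set I) : Prop := ∀ i ∈ J, ∀ j, M i j = 3 → j ∈ J

/-- a symmetry of the diagram -/
def Sym (M : CoxeterMatrix I) (σ : Equiv.Perm I) : Prop := ∀ i j, M (σ i) (σ j) = M i j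

/-- the properties of the diagram which are used -/
structure Dia (p : ℕ) (M : CoxeterMatrix I) : Prop where
  rk : ∀ σ τ : Equiv.Perm I, Sym M σ → Sym M τ → σ * τ = τ * σ → σ ^ p = 1 → τ ^ p = 1 → σ ≠ 1 →
    τ ∈ Subgroup.zpowers σ
  two : ∀ i, ∃ j, ∀ J : Set I, Cl M J → i ∈ J → j ∈ J → ∀ k, k ∈ J
  swap : ∀ σ : Equiv.Perm I, Sym M σ → σ ≠ 1 → ∀ i, ∀ J : Set I, Cl M J → i ∈ J → (∀ j ∈ J, σ j ∈ J) → ∀ k, k ∈ J

end Diagram

section Rgd

variable {I W : Type*} {Y : Type u} [Fintype I] [DecidableEq I] [Group W] [Group Y] {M : CoxeterMatrix I}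
  {cs : CoxeterSystem M W} {A : I → I → ℤ} {h : IsCartan M A} {p : ℕ} {T : Subgroup Y} {n : I → Y}
  {X : (I → ℤ) → Subgroup Y}

theorem hat_one (hσ : ∀ i j, M ((1 : Equiv.Perm I) i) ((1 : Equiv.Perm I) j) = M i j) (w : W) :
    hat cs 1 hσ w = w := by
  have h1 : hat cs 1 hσ = MonoidHom.id W := cs.ext_simple fun i => by rw [hat_simple]; rfl
  rw [h1]
  rfl

theorem fix_root (R : RGD cs h p T n X) [Finite W] {β : MulAut Y} (D : Diag T X β 1) {r : I → ℤ}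
    (hr : IsRoot cs h r) : Fix β (X r) := by
  obtain ⟨w, i, rfl⟩ := hr
  intro y
  have h1 := D.root R (fun _ _ => rfl) w i y
  rw [hat_one (fun _ _ => rfl)] at h1
  exact h1

theorem map_Sup (R : RGD cs h p T n X) [Finite W] {β : MulAut Y} (D : Diag T X β 1) {S : Set (I → ℤ)}
    (hS : ∀ r ∈ S, IsRoot cs h r) {y : Y} (hy : y ∈ RGD.Sup X S) : β y ∈ RGD.Sup X S := by
  have h1 : RGD.Sup X S ≤ (RGD.Sup X S).comap β.toMonoidHom :=
    RGD.Sup_le fun r hr z hz => RGD.le_Sup hr ((fix_root R D (hS r hr) z).2 hz)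
  exact h1 hy

theorem fix_Sup (R : RGD cs h p T n X) [Finite W] {β : MulAut Y} (D : Diag T X β 1) {S : Set (I → ℤ)}
    (hS : ∀ r ∈ S, IsRoot cs h r) : Fix β (RGD.Sup X S) := by
  intro y
  refine ⟨fun hy => ?_, map_Sup R D hS⟩
  have D' : Diag T X β⁻¹ 1 := by simpa using D.inv
  have h1 := map_Sup R D' hS hy
  rwa [MulAut.inv_apply_self] at h1

theorem exists_of_three {i j : I} (hij : M i j = 3) : ∃ w : W, rep cs h w (sr j) = sr i := by
  have hne : i ≠ j := by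
    rintro rfl
    rw [M.diagonal] at hij
    omega
  have hA : A i j = -1 ∧ A j i = -1 := by
    rcases h.rel i j hne with h1 | h1 | h1 | h1
    · omega
    · exact h1.2
    · omega
    · omega
  refine ⟨cs.simple j * cs.simple i, ?_⟩
  rw [rep_mul_apply, rep_simple_eq cs h i, Cfsg.Agent.Nodes.ZFam.pairing_sr', hA.1, map_sub, map_smul, rep_simple_sr,
    rep_simple_eq cs h j, Cfsg.Agent.Nodes.ZFam.pairing_sr', hA.2]
  simp

variable {K : I → Type w} [∀ i, Field (K i)] [∀ i, Finite (K i)] {x : ∀ i, K i → Y} {χ : ∀ i, Y → K i}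

/-- from a root group to the simple root group in its orbit -/
theorem triv_simple (R : RGD cs h p T n X) [Finite W] [Finite Y] [Fact p.Prime]
    (C : ∀ i, Coord T (X (sr i)) (x i) (χ i)) {β : MulAut Y} (D : Diag T X β 1) (hβ : β ^ p = 1) {w : W} {i : I}
    (ht : ∀ y ∈ X (rep cs h w (sr i)), β y = y) : ∀ y ∈ X (sr i), β y = y := by
  obtain ⟨k, hk⟩ := exists_rp cs R.nsys w
  have h1 := D.rp' (R := R) (fun _ _ => rfl) hk
  rw [hat_one (fun _ _ => rfl)] at h1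
  have h2 : (β k)⁻¹ * k ∈ T := h1.unique hk
  refine triv_of_scalar (C i) (R.pgrp i) hβ (c := χ i ((β k)⁻¹ * k)) (fun a => ?_) (D.pos i)
  have h3 := ht _ (R.conj_mem hk (isRoot_sr cs h i) (((C i).mem _).2 ⟨a, rfl⟩))
  rw [map_mul, map_mul, map_inv] at h3
  rw [← (C i).act _ h2]
  calc β (x i a) = (β k)⁻¹ * (β k * β (x i a) * (β k)⁻¹) * β k := by group
    _ = (β k)⁻¹ * (k * x i a * k⁻¹) * β k := by rw [h3]
    _ = _ := by group

theorem cl_triv (R : RGD cs h p T n X) [Finite W] [Finite Y] [Fact p.Prime]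
    (C : ∀ i, Coord T (X (sr i)) (x i) (χ i)) {β : MulAut Y} (D : Diag T X β 1) (hβ : β ^ p = 1) :
    Cl M {i | ∀ y ∈ X (sr i), β y = y} := by
  intro i hi j hij
  obtain ⟨w, hw⟩ := exists_of_three (cs := cs) (h := h) hij
  exact triv_simple R C D hβ (w := w) (by rw [hw]; exact hi)

/-- the centre of `U` -/
def ZU (cs : CoxeterSystem M W) (h : IsCartan M A) (X : (I → ℤ) → Subgroup Y) : Subgroup Y :=
  RGD.Sup X (RGD.Pos cs h) ⊓ Subgroup.centralizer (RGD.Sup X (RGD.Pos cs h) : Set Y)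

theorem fix_ZU {β : MulAut Y} (hβ : Fix β (RGD.Sup X (RGD.Pos cs h))) : Fix β (ZU cs h X) := by
  have key : ∀ {γ : MulAut Y}, Fix γ (RGD.Sup X (RGD.Pos cs h)) → ∀ y ∈ ZU cs h X, γ y ∈ ZU cs h X := by
    intro γ hγ y hy
    refine ⟨(hγ y).2 hy.1, ?_⟩
    change γ y ∈ Subgroup.centralizer _
    rw [Subgroup.mem_centralizer_iff]
    intro u hu
    have h1 : γ⁻¹ u ∈ RGD.Sup X (RGD.Pos cs h) := (hγ.inv u).2 hu
    have h2 := congrArg γ (Subgroup.mem_centralizer_iff.1 hy.2 _ h1)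
    rwa [map_mul, map_mul, MulAut.apply_inv_self] at h2
  intro y
  refine ⟨fun hy => ?_, key hβ y⟩
  have h1 := key hβ.inv _ hy
  rwa [MulAut.inv_apply_self] at h1

theorem ZU_ne_bot (R : RGD cs h p T n X) [Finite W] [Finite Y] [Fact p.Prime] [Nonempty I] : ZU cs h X ≠ ⊥ := by
  have hU : IsPGroup p (RGD.Sup X (RGD.Pos cs h)) := R.isPGroup_Upos
  obtain ⟨i⟩ := ‹Nonempty I›
  obtain ⟨u, hu, hu1⟩ := exists_ne_one R i
  have hu' : u ∈ RGD.Sup X (RGD.Pos cs h) := RGD.le_Sup (S := RGD.Pos cs h) ⟨isRoot_sr cs h i, sr_nonneg i⟩ hu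
  have : Nontrivial (RGD.Sup X (RGD.Pos cs h)) := ⟨⟨⟨u, hu'⟩, 1, fun e => hu1 (congrArg Subtype.val e)⟩⟩
  have h1 := hU.center_nontrivial
  obtain ⟨⟨z, hz⟩, hz1⟩ := exists_ne (1 : Subgroup.center (RGD.Sup X (RGD.Pos cs h)))
  intro hb
  have h2 : (z : Y) ∈ ZU cs h X := by
    refine ⟨z.2, ?_⟩
    change (z : Y) ∈ Subgroup.centralizer _
    rw [Subgroup.mem_centralizer_iff]
    intro u hu
    exact congrArg Subtype.val (Subgroup.mem_center_iff.1 hz ⟨u, hu⟩)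
  rw [hb, Subgroup.mem_bot] at h2
  exact hz1 (Subtype.ext (Subtype.ext h2))

/-- the last layer which meets the centre of `U` -/
theorem exists_layer (R : RGD cs h p T n X) [Finite W] [Finite Y] [Fact p.Prime] [Nonempty I] :
    ∃ (w : W) (i : I), 0 ≤ rep cs h w (sr i) ∧ ZU cs h X ⊓ RGD.Sup X (Fut cs h w) ≠ ⊥ ∧
      ZU cs h X ⊓ RGD.Sup X (Fut cs h (w * cs.simple i)) = ⊥ := by
  have h0 : ZU cs h X ⊓ RGD.Sup X (Fut cs h (1 : W)) ≠ ⊥ := by
    rw [fut_one, inf_eq_left.2 (show ZU cs h X ≤ _ from inf_le_left)]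
    exact ZU_ne_bot R
  have hex : ∃ m : ℕ, ∃ w : W, (Fut cs h w).ncard = m ∧ ZU cs h X ⊓ RGD.Sup X (Fut cs h w) ≠ ⊥ := ⟨_, 1, rfl, h0⟩
  classical
  obtain ⟨w, hw1, hw2⟩ := Nat.find_spec hex
  have hne : (Fut cs h w).Nonempty := by
    rw [Set.nonempty_iff_ne_empty]
    intro he
    rw [he, Sup_empty, inf_bot_eq] at hw2
    exact hw2 rfl
  obtain ⟨y, hy⟩ := hne
  obtain ⟨i, hi⟩ := exists_simple hy
  refine ⟨w, i, hi, hw2, ?_⟩
  by_contra hcon
  refine Nat.find_min hex (m := (Fut cs h (w * cs.simple i)).ncard) ?_ ⟨_, rfl, hcon⟩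
  rw [← hw1, fut_mul hi]
  exact Set.ncard_sdiff_singleton_lt_of_mem (mem_fut hi) (finite_fut w)

/-- a subgroup of the centre of `U` which looks like a root group -/
theorem exists_sub (R : RGD cs h p T n X) [Finite W] [Finite Y] [Fact p.Prime] [Nonempty I]
    (C : ∀ i, Coord T (X (sr i)) (x i) (χ i)) :
    ∃ (w : W) (i : I) (Z : Subgroup Y) (x' : K i → Y) (χ' : Y → K i), Z ≤ ZU cs h X ∧ Coord T Z x' χ' ∧
      ∀ β : MulAut Y, Fix β (RGD.Sup X (RGD.Pos cs h)) → Diag T X β 1 →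
        Fix β Z ∧ ((∀ z ∈ Z, β z = z) → ∀ y ∈ X (rep cs h w (sr i)), β y = y) := by
  obtain ⟨w, i, hi, hne, hbot⟩ := exists_layer R
  obtain ⟨k, hk⟩ := exists_rp cs R.nsys w
  have Cr := coord_conj (C i) hk.mem_normalizer
  rw [R.conj_rp hk (isRoot_sr cs h i)] at Cr
  obtain ⟨xr, hxr⟩ : ∃ xr : K i → Y, xr = fun a => k * x i a * k⁻¹ := ⟨_, rfl⟩
  obtain ⟨χr, hχr⟩ : ∃ χr : Y → K i, χr = fun t => χ i (k⁻¹ * t * k) := ⟨_, rfl⟩
  rw [← hxr, ← hχr] at Cr
  obtain ⟨Z, hZ⟩ : ∃ Z, Z = ZU cs h X ⊓ RGD.Sup X (Fut cs h w) := ⟨_, rfl⟩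
  obtain ⟨L, hL⟩ : ∃ L, L = RGD.Sup X (Fut cs h (w * cs.simple i)) := ⟨_, rfl⟩
  rw [← hZ] at hne
  rw [← hL] at hbot
  have hroot : ∀ v : W, ∀ r ∈ Fut cs h v, IsRoot cs h r := fun v r hr => hr.1
  have hxm : ∀ a, xr a ∈ X (rep cs h w (sr i)) := fun a => (Cr.mem _).2 ⟨a, rfl⟩
  have hdec : ∀ z ∈ Z, ∃ a, ∃ b ∈ L, z = xr a * b := by
    intro z hz
    rw [hZ] at hz
    obtain ⟨c, hc, b, hb, e⟩ := (mem_peel R (fut_subset_pos w) (closed_fut w) (mem_fut hi)).1 hz.2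
    obtain ⟨a, rfl⟩ := (Cr.mem c).1 hc
    exact ⟨a, b, by rw [hL, fut_mul hi]; exact hb, e⟩
  have hnorm : ∀ a, ∀ b ∈ L, (xr a)⁻¹ * b * xr a ∈ L := by
    intro a b hb
    have h1 := normalizer_peel R (fut_subset_pos w) (closed_fut w) (mem_fut hi) (inv_mem (hxm a))
    rw [← fut_mul hi, ← hL] at h1
    have h2 := (Subgroup.mem_normalizer_iff.1 h1 b).1 hb
    rwa [inv_inv] at h2
  have huniq : ∀ c ∈ X (rep cs h w (sr i)), ∀ c' ∈ X (rep cs h w (sr i)), ∀ b ∈ L, ∀ b' ∈ L, c * b = c' * b' → c = c' := by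
    intro c hc c' hc' b hb b' hb' e
    have h1 : c'⁻¹ * c ∈ X (rep cs h w (sr i)) ⊓ L := by
      refine Subgroup.mem_inf.2 ⟨mul_mem (inv_mem hc') hc, ?_⟩
      have h2 : c'⁻¹ * c = b' * b⁻¹ := by
        calc c'⁻¹ * c = c'⁻¹ * (c * b) * b⁻¹ := by group
          _ = _ := by rw [e]; group
      rw [h2]
      exact mul_mem hb' (inv_mem hb)
    rw [hL, tail_inf R, Subgroup.mem_bot] at h1
    exact (inv_mul_eq_one.1 h1).symm
  have hinj : ∀ z ∈ Z, ∀ z' ∈ Z, ∀ a, ∀ b ∈ L, ∀ b' ∈ L, z = xr a * b → z' = xr a * b' → z = z' := by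
    intro z hz z' hz' a b hb b' hb' e e'
    have h1 : z⁻¹ * z' ∈ ZU cs h X ⊓ L := by
      refine Subgroup.mem_inf.2 ⟨mul_mem (inv_mem ?_) ?_, ?_⟩
      · rw [hZ] at hz; exact hz.1
      · rw [hZ] at hz'; exact hz'.1
      · have h2 : z⁻¹ * z' = b⁻¹ * b' := by rw [e, e']; group
        rw [h2]
        exact mul_mem (inv_mem hb) hb'
    rw [hbot, Subgroup.mem_bot] at h1
    exact inv_mul_eq_one.1 h1
  have hTU : ∀ t ∈ T, Fix (MulAut.conj t) (RGD.Sup X (RGD.Pos cs h)) := fun t ht y =>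
    (Subgroup.mem_normalizer_iff.1 (R.T_le_normalizer_U ht) y).symm
  have hTZ : ∀ t ∈ T, ∀ z ∈ Z, t * z * t⁻¹ ∈ Z := by
    intro t ht z hz
    rw [hZ] at hz ⊢
    exact ⟨(fix_ZU (hTU t ht) z).2 hz.1,
      (Subgroup.mem_normalizer_iff.1 (R.T_le_normalizer (hroot w) ht) z).1 hz.2⟩
  have hTL : ∀ t ∈ T, ∀ b ∈ L, t * b * t⁻¹ ∈ L := by
    intro t ht b hb
    rw [hL] at hb ⊢
    exact (Subgroup.mem_normalizer_iff.1 (R.T_le_normalizer (hroot _) ht) b).1 hb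
  have hmulr : ∀ a a', ∀ b ∈ L, ∀ b' ∈ L, ∃ c ∈ L, xr a * b * (xr a' * b') = xr (a + a') * c := by
    intro a a' b hb b' hb'
    refine ⟨(xr a')⁻¹ * b * xr a' * b', mul_mem (hnorm a' b hb) hb', ?_⟩
    rw [Cr.add]
    group
  have hact : ∀ t ∈ T, ∀ a, ∀ b ∈ L, ∃ c ∈ L, t * (xr a * b) * t⁻¹ = xr (χr t * a) * c := by
    intro t ht a b hb
    refine ⟨t * b * t⁻¹, hTL t ht b hb, ?_⟩
    rw [← Cr.act t ht]
    group
  let S : AddSubgroup (K i) :=
    { carrier := {a | ∃ b ∈ L, xr a * b ∈ Z}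
      add_mem' := by
        rintro a a' ⟨b, hb, h1⟩ ⟨b', hb', h2⟩
        obtain ⟨c, hc, e⟩ := hmulr a a' b hb b' hb'
        exact ⟨c, hc, by rw [← e]; exact mul_mem h1 h2⟩
      zero_mem' := ⟨1, one_mem _, by rw [Cr.zero, mul_one]; exact one_mem _⟩
      neg_mem' := by
        rintro a ⟨b, hb, h1⟩
        refine ⟨(xr (-a))⁻¹ * b⁻¹ * xr (-a), hnorm _ _ (inv_mem hb), ?_⟩
        have e : xr (-a) * ((xr (-a))⁻¹ * b⁻¹ * xr (-a)) = (xr a * b)⁻¹ := by rw [coord_neg Cr]; group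
        rw [e]
        exact inv_mem h1 }
  have hall : ∀ a, ∃ b ∈ L, xr a * b ∈ Z := by
    obtain ⟨⟨z, hz⟩, hz1⟩ := Subgroup.ne_bot_iff_exists_ne_one.1 hne
    obtain ⟨a, b, hb, e⟩ := hdec z hz
    have ha0 : a ≠ 0 := by
      rintro rfl
      apply hz1
      apply Subtype.ext
      exact hinj z hz 1 (one_mem _) 0 b hb 1 (one_mem _) e (by rw [Cr.zero, mul_one])
    refine all_of_span Cr S ?_ (a := a) ⟨b, hb, by rw [← e]; exact hz⟩ ha0
    rintro t ht c ⟨d, hd, h1⟩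
    obtain ⟨d', hd', e'⟩ := hact t ht c d hd
    exact ⟨d', hd', by rw [← e']; exact hTZ t ht _ h1⟩
  choose bb hbb hbZ using hall
  refine ⟨w, i, Z, fun a => xr a * bb a, χr, by rw [hZ]; exact inf_le_left, ⟨fun y => ⟨fun hy => ?_, ?_⟩, ?_, ?_, ?_,
    Cr.span⟩, fun β hβ D => ⟨?_, fun hfix y hy => ?_⟩⟩
  · obtain ⟨a, b, hb, e⟩ := hdec y hy
    exact ⟨a, hinj _ (hbZ a) _ hy a _ (hbb a) b hb rfl e⟩
  · rintro ⟨a, rfl⟩
    exact hbZ a
  · intro a a' e
    exact Cr.inj (huniq _ (hxm a) _ (hxm a') _ (hbb a) _ (hbb a') e)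
  · intro a a'
    obtain ⟨c, hc, e⟩ := hmulr a a' _ (hbb a) _ (hbb a')
    exact hinj _ (hbZ _) _ (mul_mem (hbZ a) (hbZ a')) (a + a') _ (hbb _) c hc rfl e
  · intro t ht a
    obtain ⟨c, hc, e⟩ := hact t ht a _ (hbb a)
    exact hinj _ (hTZ t ht _ (hbZ a)) _ (hbZ _) (χr t * a) c hc _ (hbb _) e rfl
  · rw [hZ]
    exact (fix_ZU hβ).inf (fix_Sup R D (hroot w))
  · obtain ⟨a, rfl⟩ := (Cr.mem y).1 hy
    have h1 := hfix _ (hbZ a)
    rw [map_mul] at h1
    refine huniq _ ((fix_root R D ⟨w, i, rfl⟩ _).2 (hxm a)) _ (hxm a) _ ?_ _ (hbb a) h1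
    rw [hL]
    refine map_Sup R D (hroot _) ?_
    rw [← hL]
    exact hbb a

/-- the case of a group of frame automorphisms -/
theorem frame_absurd (R : RGD cs h p T n X) [Finite W] [Finite Y] [Fact p.Prime] [Nonempty I]
    (hG1 : RGD.Sup X {x | IsRoot cs h x} = ⊤) (C : ∀ i, Coord T (X (sr i)) (x i) (χ i)) (hM : Dia p M)
    {V : Type v} [Group V] (hV : PP p V) (g : V →* MulAut Y) (hg : ∀ v, g v ∈ Frame cs h X)
    (hinj : ∀ v, g v = 1 → v = 1) (hfix : ∀ v, v ≠ 1 → ∀ w, ∀ z ∈ ZU cs h X, g v z = z → g w z = z) : False := by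
  have hG := GG_eq_top (T := T) hG1
  have h1 : ∀ v, ∃ σ : Equiv.Perm I, Diag T X (g v) σ := fun v => exists_diag R hG (hg v).1 (hg v).2
  choose σ D using h1
  have hσm : ∀ a b, σ (a * b) = σ a * σ b := fun a b =>
    H936.diag_unique R (D (a * b)) (by rw [map_mul]; exact (D a).mul (D b))
  let s : V →* Equiv.Perm I := MonoidHom.mk' σ hσm
  have hs : ∀ v, s v = σ v := fun _ => rfl
  have hgp : ∀ v, g v ^ p = 1 := fun v => by rw [← map_pow, hV.pow, map_one]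
  obtain ⟨e, he1, he⟩ := hV.exists_ker s fun a b ha => hM.rk _ _ ((D a).matrix R) ((D b).matrix R)
    (by rw [← map_mul, hV.comm, map_mul]) (by rw [← map_pow, hV.pow, map_one]) (by rw [← map_pow, hV.pow, map_one]) ha
  have D1 : ∀ v, σ v = 1 → Diag T X (g v) 1 := fun v hv => hv ▸ D v
  obtain ⟨w, i, Z, x', χ', hZ, CZ, hβ⟩ := exists_sub R C
  have hZp : IsPGroup p Z := R.isPGroup_Upos.to_le (hZ.trans inf_le_left)
  have hZne : Z ≠ ⊥ := by
    intro h0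
    have h2 : x' 1 ∈ Z := (CZ.mem _).2 ⟨1, rfl⟩
    rw [h0, Subgroup.mem_bot] at h2
    exact CZ.ne_one one_ne_zero h2
  obtain ⟨z, hz, hz1, hzf⟩ := exists_fixed (k := 1) (by rw [pow_one]; exact hgp e) (hβ _ (hg e).1 (D1 e he)).1 hZp hZne
  have hle : ∀ v, ∀ y ∈ Z, g v y ∈ Z := by
    intro v
    refine le_of_mem CZ (H := Z.comap (g v).toMonoidHom) (fun t ht y hy => ?_) hz hz1 ?_
    · change g v (t * y * t⁻¹) ∈ Z
      have hy' : g v y ∈ Z := hy
      obtain ⟨a, ha⟩ := (CZ.mem _).1 hy'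
      rw [map_mul, map_mul, map_inv, ← ha, CZ.act _ (((D v).tor t).2 ht)]
      exact (CZ.mem _).2 ⟨_, rfl⟩
    · change g v z ∈ Z
      rw [hfix e he1 v z (hZ hz) hzf]
      exact hz
  have hFZ : ∀ v, Fix (g v) Z := by
    intro v y
    refine ⟨fun hy => ?_, hle v y⟩
    have h2 := hle v⁻¹ _ hy
    rwa [map_inv, MulAut.inv_apply_self] at h2
  obtain ⟨v₁, hv₁, hv₁'⟩ := exists_triv CZ hZp hV g (fun v => (D v).tor) hFZ
  have hi : ∀ v, σ v = 1 → ∀ y ∈ X (sr i), g v y = y := fun v hv =>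
    triv_simple R C (D1 v hv) (hgp v) (w := w)
      ((hβ _ (hg v).1 (D1 v hv)).2 fun y hy => hfix v₁ hv₁ v y (hZ hy) (hv₁' y hy))
  by_cases hall : ∀ v, σ v = 1
  · obtain ⟨j, hj⟩ := hM.two i
    obtain ⟨v, hv, hv'⟩ := exists_triv (C j) (R.pgrp j) hV g (fun v => (D v).tor) (fun v => (D1 v (hall v)).pos j)
    exact hv (hinj v (Diag.eq_one R hG1 (D1 v (hall v))
      (hj _ (cl_triv R C (D1 v (hall v)) (hgp v)) (hi v (hall v)) hv')))
  · push Not at hall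
    obtain ⟨γ, hγ⟩ := hall
    refine he1 (hinj e (Diag.eq_one R hG1 (D1 e he)
      (hM.swap (σ γ) ((D γ).matrix R) hγ i _ (cl_triv R C (D1 e he) (hgp e)) (hi e he) fun j hj y hy => ?_)))
    have h2 : (g γ)⁻¹ y ∈ X (sr j) := ((D γ).pos j _).1 (by rwa [MulAut.apply_inv_self])
    have h3 : g e ((g γ)⁻¹ y) = (g γ)⁻¹ y := hj _ h2
    have h4 : g e * g γ = g γ * g e := by rw [← map_mul, hV.comm, map_mul]
    calc g e y = (g e * g γ) ((g γ)⁻¹ y) := by rw [MulAut.mul_apply, MulAut.apply_inv_self]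
      _ = y := by rw [h4, MulAut.mul_apply, h3, MulAut.apply_inv_self]

/-- a `p`-group of automorphisms fixes a conjugate of `U` -/
theorem exists_conj_fix (R : RGD cs h p T n X) [Finite W] [Finite Y] [Fact p.Prime]
    (hG1 : RGD.Sup X {x | IsRoot cs h x} = ⊤) {V : Type v} [Group V] [Finite V] (hV : IsPGroup p V)
    (φ : V →* MulAut Y) :
    ∃ k : Y, ∀ v, Fix ((MulAut.conj k)⁻¹ * φ v * MulAut.conj k) (RGD.Sup X (RGD.Pos cs h)) := by
  have hG := GG_eq_top (T := T) hG1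
  have hi : ¬ p ∣ (RGD.Sup X (RGD.Pos cs h)).index := by
    have h1 := KFacts.RgdSyl.not_dvd_relIndex R
    rwa [hG, Subgroup.relIndex_top_right] at h1
  let P : Sylow p Y := R.isPGroup_Upos.toSylow hi
  have hP : (P : Subgroup Y) = RGD.Sup X (RGD.Pos cs h) := rfl
  let _ : MulAction V (Sylow p Y) := MulAction.compHom _ φ
  obtain ⟨Q, hQ⟩ := hV.nonempty_fixed_point_of_prime_not_dvd_card (Sylow p Y) (not_dvd_card_sylow p Y)
  obtain ⟨k, hk⟩ := MulAction.exists_smul_eq Y P Q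
  refine ⟨k, fun v => ?_⟩
  have h1 : φ v • Q = Q := hQ v
  have h2 : MulAut.conj k • P = Q := hk
  have h3 : ((MulAut.conj k)⁻¹ * φ v * MulAut.conj k) • P = P := by
    rw [mul_smul, mul_smul, h2, h1, ← h2, inv_smul_smul]
  have h4 : ((((MulAut.conj k)⁻¹ * φ v * MulAut.conj k) • P : Sylow p Y) : Subgroup Y) = P := by rw [h3]
  rw [Sylow.pointwise_smul_def, hP] at h4
  rw [fix_iff]
  exact h4

/-- **The abstract row.** -/
theorem noV_of_rgd (R : RGD cs h p T n X) [Finite W] [Finite Y] [Fact p.Prime] [Nonempty I]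
    (hG1 : RGD.Sup X {x | IsRoot cs h x} = ⊤) (C : ∀ i, Coord T (X (sr i)) (x i) (χ i)) (hM : Dia p M) :
    NoV.{u, v} p Y := by
  intro V _ hV φ hφ
  have hG := GG_eq_top (T := T) hG1
  have := hV.finite
  obtain ⟨k, hk⟩ := exists_conj_fix R hG1 hV.isPGroup φ
  let ψ : V →* MulAut Y := MonoidHom.mk' (fun v => (MulAut.conj k)⁻¹ * φ v * MulAut.conj k) fun a b => by
    rw [map_mul]; group
  have hψ : ∀ v, ψ v = (MulAut.conj k)⁻¹ * φ v * MulAut.conj k := fun _ => rfl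
  have hout : ∀ v y, ψ v = MulAut.conj y → v = 1 := by
    intro v y hv
    refine hφ.out v (k * y * k⁻¹) ?_
    rw [map_mul, map_mul, map_inv, ← hv, hψ]
    group
  have hfx : ∀ v y, ψ v y = y ↔ φ v (MulAut.conj k y) = MulAut.conj k y := by
    intro v y
    rw [hψ, MulAut.mul_apply, MulAut.mul_apply]
    constructor
    · intro h1
      have h2 := congrArg (MulAut.conj k) h1
      rwa [MulAut.apply_inv_self] at h2
    · intro h1
      rw [h1, MulAut.inv_apply_self]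
  obtain ⟨f, hf⟩ := exists_toFrame R hG ψ.range (by rintro _ ⟨v, rfl⟩; exact hk v)
  have hz : ∀ v, ∀ z ∈ ZU cs h X, f (ψ.rangeRestrict v) z = ψ v z := by
    intro v z hz
    obtain ⟨u, hu, e⟩ := (hf (ψ.rangeRestrict v)).2.1
    have h1 : ψ v z ∈ ZU cs h X := (fix_ZU (hk v) z).2 hz
    rw [e, MulAut.mul_apply, MulAut.conj_apply]
    change u * ψ v z * u⁻¹ = ψ v z
    rw [Subgroup.mem_centralizer_iff.1 h1.2 u hu, mul_inv_cancel_right]
  refine frame_absurd R hG1 C hM hV (f.comp ψ.rangeRestrict) (fun v => (hf _).1) (fun v hv => ?_)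
    (fun v hv w z hzz h1 => ?_)
  · obtain ⟨u, -, e⟩ := (hf (ψ.rangeRestrict v)).2.2.2.1.1 hv
    exact hout v u e
  · change f (ψ.rangeRestrict w) z = z
    change f (ψ.rangeRestrict v) z = z at h1
    rw [hz _ _ hzz] at h1 ⊢
    exact (hfx w z).2 (hφ.fix v hv w _ ((hfx v z).1 h1))

end Rgd

end Cfsg.Agent.TID.KD
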