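import Mathlib
import Cfsg.Agent.H936.DSTw
import Cfsg.Agent.KFacts.SLRow.Row
import Cfsg.Agent.KFacts.RgdSys
import Cfsg.Agent.KFacts.RgdGraphF4
import Cfsg.Agent.S1082
import Cfsg.Agent.TID.KD.Abs

/-!
# TID, row KDef: `NoV` for the groups which are treated with their root group datum (helper2)
-/

set_option autoImplicit false
set_option linter.unusedSectionVars false

namespace Cfsg.Agent.TID.KD

open CoxeterSystem Cfsg.Agent.ChevalleyStructure.CoxeterGeom Cfsg.Agent.Tits.Roots Cfsg.Agent.Tits.Core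
  Cfsg.Agent.Nodes.Reps Cfsg.Agent.Nodes.BNOf Cfsg.Agent.KFacts.SLRow Cfsg.Agent.KFacts.SLRow.Diag
  Cfsg.Agent.H936

universe u v

/-! ### diagrams -/

section Diagram

variable {p : ℕ}

/-- the first field of `Dia` -/
def DRk {I : Type*} (p : ℕ) (M : CoxeterMatrix I) : Prop :=
  ∀ σ τ : Equiv.Perm I, Sym M σ → Sym M τ → σ * τ = τ * σ → σ ^ p = 1 → τ ^ p = 1 → σ ≠ 1 → τ ∈ Subgroup.zpowers σ

theorem Sym.mul {I : Type*} {M : CoxeterMatrix I} {σ τ : Equiv.Perm I} (hσ : Sym M σ) (hτ : Sym M τ) :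
    Sym M (σ * τ) := fun i j => by rw [Equiv.Perm.mul_apply, Equiv.Perm.mul_apply, hσ, hτ]

theorem drk_of_unique {I : Type*} {M : CoxeterMatrix I} (σ₀ : Equiv.Perm I) (h : ∀ σ, Sym M σ → σ = 1 ∨ σ = σ₀) :
    DRk p M := by
  intro σ τ hσ hτ _ _ _ h1
  rcases h τ hτ with h2 | h2
  · rw [h2]
    exact one_mem _
  · rcases h σ hσ with h3 | h3
    · exact absurd h3 h1
    · rw [h2, h3]
      exact Subgroup.mem_zpowers _

theorem drk_two {I : Type*} {M : CoxeterMatrix I} (h : DTwo M) : DRk 2 M := by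
  intro σ τ hσ hτ hc h1 h2 h3
  by_cases h4 : τ = 1
  · rw [h4]
    exact one_mem _
  have h5 : σ * σ = 1 := by rw [← pow_two, h1]
  have h6 : τ * τ = 1 := by rw [← pow_two, h2]
  have h7 : σ⁻¹ = σ := inv_eq_of_mul_eq_one_left h5
  have h8 : τ⁻¹ = τ := inv_eq_of_mul_eq_one_left h6
  let P : Subgroup (Equiv.Perm I) :=
    { carrier := {ρ | Sym M ρ ∧ ρ * ρ = 1 ∧ σ * ρ = ρ * σ ∧ τ * ρ = ρ * τ ∧ (ρ = 1 ∨ ρ = σ ∨ ρ = τ ∨ ρ = σ * τ)}
      one_mem' := ⟨fun _ _ => rfl, mul_one _, by simp, by simp, Or.inl rfl⟩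
      mul_mem' := by
        have a1 : ∀ x : Equiv.Perm I, σ * (σ * x) = x := fun x => by rw [← mul_assoc, h5, one_mul]
        have a3 : ∀ x : Equiv.Perm I, τ * (σ * x) = σ * (τ * x) := fun x => by rw [← mul_assoc, ← hc, mul_assoc]
        rintro a b ⟨ha, -, -, -, ha'⟩ ⟨hb, -, -, -, hb'⟩
        refine ⟨ha.mul hb, ?_⟩
        rcases ha' with rfl | rfl | rfl | rfl <;> rcases hb' with rfl | rfl | rfl | rfl <;>
          simp only [mul_assoc, one_mul, mul_one, a1, a3, h5, h6, ← hc, true_or, or_true, and_self]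
      inv_mem' := by
        rintro a ⟨ha, h9, h10, h11, h12⟩
        rw [inv_eq_of_mul_eq_one_left h9]
        exact ⟨ha, h9, h10, h11, h12⟩ }
  have hP : IsPGroup 2 P := fun a => ⟨1, Subtype.ext (by
    rw [pow_one, Subgroup.coe_pow, pow_two]
    exact a.2.2.1)⟩
  have h9 := h P hP (fun ρ hρ => hρ.1) σ ⟨hσ, h5, rfl, hc.symm, Or.inr (Or.inl rfl)⟩ τ
    ⟨hτ, h6, hc, rfl, Or.inr (Or.inr (Or.inl rfl))⟩ h3 h4
  rw [← h9]
  exact Subgroup.mem_zpowers _

theorem drk_of_two [Fact p.Prime] {l : ℕ} {M : CoxeterMatrix (Fin l)} (h : SymTwo M) (h' : DTwo M) : DRk p M := by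
  by_cases hp : p = 2
  · subst hp
    exact drk_two h'
  intro σ τ hσ _ _ h1 _ h3
  exfalso
  have h4 : orderOf σ = p := orderOf_eq_prime h1 h3
  have h5 := orderOf_dvd_of_pow_eq_one (h σ hσ)
  rw [h4] at h5
  exact hp ((Nat.prime_dvd_prime_iff_eq Fact.out Nat.prime_two).1 h5)

/-- simply laced connected diagrams -/
theorem dia_of_sl {I : Type*} {M : CoxeterMatrix I} {A : I → I → ℤ} (h : IsCartan M A) (hc : Def.Conn M)
    (h4 : ∀ i j, M i j ≠ 4) (h6 : ∀ i j, M i j ≠ 6) (hr : DRk p M) : Dia p M := by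
  have key : ∀ J : Set I, Cl M J → ∀ i ∈ J, ∀ k, k ∈ J := by
    intro J hJ i hi k
    by_contra hk
    obtain ⟨a, ha, b, hb, hab⟩ := hc J ⟨i, hi⟩ ⟨k, hk⟩
    have hne : a ≠ b := by
      rintro rfl
      exact hb ha
    rcases h.rel a b hne with h1 | h1 | h1 | h1
    · exact hab h1.1
    · exact hb (hJ a ha b h1.1)
    · exact h4 a b h1.1
    · exact h6 a b h1.1
  exact ⟨hr, fun i => ⟨i, fun J hJ hi _ => key J hJ i hi⟩, fun σ _ _ i J hJ hi _ => key J hJ i hi⟩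

theorem dia_two (M : CoxeterMatrix (Fin 2)) : Dia p M := by
  have h1 : ∀ σ : Equiv.Perm (Fin 2), σ = 1 ∨ σ = Fin.revPerm := by decide
  have h2 : ∀ i k : Fin 2, k = i ∨ k = Fin.revPerm i := by decide
  refine ⟨drk_of_unique Fin.revPerm fun σ _ => h1 σ, fun i => ⟨Fin.revPerm i, fun J _ hi hj k => ?_⟩,
    fun σ _ hσ i J _ hi hJ k => ?_⟩
  · rcases h2 i k with rfl | rfl
    · exact hi
    · exact hj
  · rcases h1 σ with h3 | rfl
    · exact absurd h3 hσ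
    rcases h2 i k with rfl | rfl
    · exact hi
    · exact hJ i hi

theorem dia_F4 : Dia p CoxeterMatrix.F₄ := by
  have h2 : ∀ i k : Fin 4, k = i ∨ k = Fin.revPerm i ∨ CoxeterMatrix.F₄ i k = 3 ∨
      CoxeterMatrix.F₄ (Fin.revPerm i) k = 3 := by intro i; fin_cases i <;> decide
  have key : ∀ J : Set (Fin 4), Cl CoxeterMatrix.F₄ J → ∀ i ∈ J, Fin.revPerm i ∈ J → ∀ k, k ∈ J := by
    intro J hJ i hi hj k
    rcases h2 i k with rfl | rfl | h3 | h3
    · exact hi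
    · exact hj
    · exact hJ _ hi _ h3
    · exact hJ _ hj _ h3
  refine ⟨drk_of_unique Fin.revPerm fun σ hσ => Cfsg.Agent.KFacts.RgdGraphF4.hsw_F4' σ hσ,
    fun i => ⟨Fin.revPerm i, fun J hJ hi hj => key J hJ i hi hj⟩, fun σ hσ h1 i J hJ hi hs => ?_⟩
  rcases Cfsg.Agent.KFacts.RgdGraphF4.hsw_F4' σ hσ with h3 | rfl
  · exact absurd h3 h1
  · exact key J hJ i hi (hs i hi)

theorem drk_D4 : DRk 3 Cfsg.Lie.coxeterD4 := by
  have h1 : ∀ σ τ : Equiv.Perm (Fin 4), σ * τ = τ * σ → σ ^ 3 = 1 → τ ^ 3 = 1 → σ ≠ 1 →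
      τ = 1 ∨ τ = σ ∨ τ = σ⁻¹ := by decide
  intro σ τ _ _ hc h2 h3 h4
  rcases h1 σ τ hc h2 h3 h4 with rfl | rfl | rfl
  · exact one_mem _
  · exact Subgroup.mem_zpowers _
  · exact inv_mem (Subgroup.mem_zpowers _)

end Diagram

/-! ### Chevalley groups -/

section Chev

open Cfsg.Lie Cfsg.Agent.ChevalleyStructure Cfsg.Agent.ChevalleyStructure.CoxeterGeomTypes Cfsg.Agent.Nodes.RGDChev
  Cfsg.Agent.KFacts.RgdChevCoord Cfsg.Agent.KFacts.SLRow.Def

variable {p : ℕ} [Fact p.Prime] (K : Type u) [Field K] [Finite K] [CharP K p]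

theorem noV_group {D : ChevalleyDatum} {l : ℕ} {M : CoxeterMatrix (Fin l)} (hp : IsType D l M) [NeZero l]
    (hM : Dia p M) : NoV.{u, v} p ↥(D.group K) := by
  have hW := finite_W hp (M.toCoxeterSystem)
  have R := rgd (K := K) hp M.toCoxeterSystem p
  have hG1 : RGD.Sup (XX D l K) {x | IsRoot M.toCoxeterSystem hp.isCartan x} = ⊤ := G1_eq_top hp M.toCoxeterSystem
  have C := coords (K := K) hp M.toCoxeterSystem p
  exact noV_of_rgd R hG1 (K := fun _ => K) (fun i => C.coord _ (isRoot_sr _ _ i)) hM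

theorem noV_G2 : NoV.{u, v} p ↥(chevG2.group K) :=
  noV_group K (l := 2) (M := CoxeterMatrix.G₂) (by simp [IsType, typeList]) (dia_two _)

theorem noV_F4 : NoV.{u, v} p ↥(chevF4.group K) :=
  noV_group K (l := 4) (M := CoxeterMatrix.F₄) (by simp [IsType, typeList]) dia_F4

theorem noV_E6 : NoV.{u, v} p ↥(chevE6.group K) := by
  have hp : IsType chevE6 6 CoxeterMatrix.E₆ := by simp [IsType, typeList]
  exact noV_group K hp (dia_of_sl hp.isCartan
    (conn_of_parent ![0, 3, 1, 2, 3, 4] ![0, 3, 0, 2, 3, 4] (by decide) (by decide) (by decide))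
    (by intro i; fin_cases i <;> decide) (by intro i; fin_cases i <;> decide) (drk_of_two symTwo_E6 dTwo_E6))

theorem noV_E7 : NoV.{u, v} p ↥(chevE7.group K) := by
  have hp : IsType chevE7 7 CoxeterMatrix.E₇ := by simp [IsType, typeList]
  exact noV_group K hp (dia_of_sl hp.isCartan
    (conn_of_parent ![0, 3, 1, 2, 3, 4, 5] ![0, 3, 0, 2, 3, 4, 5] (by decide) (by decide) (by decide))
    (by intro i; fin_cases i <;> decide) (by intro i; fin_cases i <;> decide) (drk_of_two symTwo_E7 dTwo_E7))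

theorem noV_E8 : NoV.{u, v} p ↥(chevE8.group K) := by
  have hp : IsType chevE8 8 CoxeterMatrix.E₈ := by simp [IsType, typeList]
  exact noV_group K hp (dia_of_sl hp.isCartan
    (conn_of_parent ![0, 3, 1, 2, 3, 4, 5, 6] ![0, 3, 0, 2, 3, 4, 5, 6] (by decide) (by decide) (by decide))
    (by intro i; fin_cases i <;> decide) (by intro i; fin_cases i <;> decide) (drk_of_two symTwo_E8 dTwo_E8))

theorem noV_D4 (K : Type u) [Field K] [Finite K] [Fact (Nat.Prime 3)] [CharP K 3] :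
    NoV.{u, v} 3 (POmega K (quadFormPlus 4 K)) := by
  have hp : IsType chevD4 4 coxeterD4 := by simp [IsType, typeList]
  obtain ⟨e⟩ := Cfsg.Agent.S1082.result (F := K)
  exact (noV_group K hp (dia_of_sl hp.isCartan
    (conn_of_parent ![1, 0, 1, 1] ![1, 1, 1, 1] (by decide) (by decide) (by decide))
    (by intro i; fin_cases i <;> decide) (by intro i; fin_cases i <;> decide) drk_D4)).of_equiv e.symm

end Chev

/-! ### simply laced groups in characteristic two -/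

section SL

theorem noV_of_isSLC {q l : ℕ} {M : CoxeterMatrix (Fin l)} {Y : Type u} [Group Y] [Finite Y]
    (hY : Row.IsSLC q M Y) : NoV.{u, v} 2 Y := by
  obtain ⟨A, h, T, n, X, F, _, _, _, e, hW, -, hM, D, S⟩ := hY
  have h3 := D.three
  rw [Fintype.card_fin] at h3
  have : Nonempty (Fin l) := ⟨⟨0, by omega⟩⟩
  have C := Cfsg.Agent.KFacts.RgdSys.coords S D.gen
  exact noV_of_rgd D.rgd D.gen (K := fun _ => F) (fun i => C.coord _ (isRoot_sr _ _ i))
    (dia_of_sl h D.irr D.h4 D.h6 (drk_two hM))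

theorem noV_OPlus_two {m : ℕ} (hm : 4 ≤ m) (F : Type) [Field F] [Finite F] [CharP F 2] :
    NoV.{0, v} 2 (POmega F (quadFormPlus m F)) := by
  obtain ⟨n, rfl⟩ : ∃ n, m = n + 2 := ⟨m - 2, by omega⟩
  exact noV_of_isSLC (Row.isSLC_OPlus (by omega) F)

open Cfsg.Agent.LieRecognition.BNCox (cA) in
theorem noV_PSL_two {n : ℕ} (hn : 2 ≤ n) (F : Type) [Field F] [Finite F] [CharP F 2] :
    NoV.{0, v} 2 (Matrix.ProjectiveSpecialLinearGroup (Fin n) F) := by
  obtain ⟨m, rfl⟩ : ∃ m, n = m + 1 := ⟨n - 1, by omega⟩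
  have : Nonempty (Fin m) := ⟨⟨0, by omega⟩⟩
  have h := Cfsg.Agent.Nodes.RootsA.isCartan m
  have hW : Finite (cA m).Group := Cfsg.Agent.Nodes.RootsA.finite_W (cA m).toCoxeterSystem h
  have hG := Cfsg.Agent.Nodes.RGDTypeA.G1_psl_eq_top (F := F) (cA m).toCoxeterSystem h
  have C := Cfsg.Agent.KFacts.RgdSys.coords (SysA.sys_PSL (F := F) (cA m).toCoxeterSystem h) hG
  exact noV_of_rgd (Cfsg.Agent.Nodes.RGDTypeA.rgd_psl (F := F) (p := 2) (cA m).toCoxeterSystem h) hG (K := fun _ => F)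
    (fun i => C.coord _ (isRoot_sr _ _ i))
    (dia_of_sl h Psl.conn_cA (fun i j => (Psl.cA_ne i j).1) (fun i j => (Psl.cA_ne i j).2) (drk_two (dTwo_A m)))

end SL

/-! ### the twisted groups -/

section Tw

open Cfsg.Agent.Nodes.RGDTwGen Cfsg.Agent.Nodes.RGDChev Cfsg.Agent.Nodes.RGDFold Cfsg.Agent.Nodes.RGDFoldSL
  Cfsg.Agent.KFacts.RgdNodes Cfsg.Lie Cfsg.Agent.ChevalleyStructure Cfsg.Agent.ChevalleyStructure.TwistedU
  Cfsg.Agent.ChevalleyStructure.TwistedFix Cfsg.Agent.ChevalleyStructure.TwistedFixOrbit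
  Cfsg.Agent.KFacts.TwESix.NodeCoord

open Cfsg.Agent.Nodes.RGDTwE6 Cfsg.Agent.Nodes.RGDTwNode.E6 in
theorem noV_twistedE6 {p : ℕ} [Fact p.Prime] {K : Type} [Field K] [Fintype K] [CharP K p] {q : ℕ} (hq : IsPrimePow q)
    (hK : Fintype.card K = q ^ 2) : NoV.{0, v} p ↥(twistedE6 K q) := by
  obtain ⟨φ, hφ, hqq⟩ := Cfsg.Agent.ChevalleyStructure.TwE6Basic.exists_frob hq hK
  have R := Cfsg.Agent.Nodes.RGDTwE6.rgd CoxeterMatrix.F₄.toCoxeterSystem hφ hqq p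
  have hG1 := Cfsg.Agent.Nodes.RGDTwE6.G1_eq_top CoxeterMatrix.F₄.toCoxeterSystem hφ hqq
  have hW : Finite CoxeterMatrix.F₄.Group :=
    finite_W (hp := hp) CoxeterMatrix.F₄.toCoxeterSystem Cfsg.Agent.Nodes.RGDTwE6.isCartan foldData
  exact noV_of_rgd R hG1 (K := fun i => ↥(Fx φ ((rest i).length + 1)))
    (fun i => coord (foldGrp hφ hqq) (nodeOK i) (hf_E6 φ i)) dia_F4

open Cfsg.Agent.Nodes.RGDTwD4 Cfsg.Agent.Nodes.RGDTwNode.D4 in
theorem noV_twistedD4 {p : ℕ} [Fact p.Prime] {K : Type} [Field K] [Fintype K] [CharP K p] {q : ℕ} (hq : IsPrimePow q)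
    (hK : Fintype.card K = q ^ 3) : NoV.{0, v} p ↥(twistedD4 K q) := by
  obtain ⟨φ, hφ⟩ := D4Fixed.exists_frob hq hK
  have R := Cfsg.Agent.Nodes.RGDTwD4.rgd CoxeterMatrix.G₂.toCoxeterSystem hK hφ p
  have hG1 := Cfsg.Agent.Nodes.RGDTwD4.G1_eq_top CoxeterMatrix.G₂.toCoxeterSystem hK hφ
  have hW : Finite CoxeterMatrix.G₂.Group :=
    finite_W (hp := hp) CoxeterMatrix.G₂.toCoxeterSystem Cfsg.Agent.Nodes.RGDTwD4.isCartan foldData
  exact noV_of_rgd R hG1 (K := fun i => ↥(Fx φ ((rest i).length + 1)))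
    (fun i => coord (foldGrp hφ (D4Fixed.twisted_le_fix hK hφ)) (nodeOK i) (hf_D4 φ i)) (dia_two _)

end Tw

end Cfsg.Agent.TID.KD
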