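import Mathlib
import Cfsg.Agent.TID.KD.RowsRgd
import Cfsg.Agent.TID.KD.RowsOut

/-!
# TID, row KDef: `NoV p S` for every group `S` of Lie type in characteristic `p` (helper2)
-/

set_option autoImplicit false

namespace Cfsg.Agent.TID.KD

universe u v

/-- **No group `p × p` of outer automorphisms with a common centralizer.** -/
theorem noV_of_lie {p : ℕ} [Fact p.Prime] {S : Type u} [Group S] (h : IsLieTypeChar p S) : NoV.{u, v} p S := by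
  rcases h with h | h | h | h | h | h | h | h | ⟨rfl, h⟩ | ⟨rfl, h⟩ | ⟨rfl, h⟩
  · obtain ⟨F, _, _, _, n, hn, h4, ⟨e⟩⟩ := h
    by_cases hp : p = 2
    · subst hp
      exact (noV_PSL_two hn F).of_equiv e
    · exact (noV_of_out (rk1_PSL hn h4 hp)).of_equiv e
  · obtain ⟨F, _, _, _, m, hm, -, ⟨e⟩⟩ := h
    exact (noV_of_out (rk1_PSp hm)).of_equiv e
  · obtain ⟨F, _, _, _, n, q, hK, hn, h32, ⟨e⟩⟩ := h
    exact (noV_of_out (rk1_PSU hK hn h32)).of_equiv e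
  · obtain ⟨F, _, _, _, m, hm, ho, ⟨e⟩⟩ := h
    exact (noV_of_out (rk1_OOdd hm ho)).of_equiv e
  · obtain ⟨F, _, _, _, m, hm, ⟨e⟩⟩ := h
    by_cases hp : p = 2
    · subst hp
      exact (noV_OPlus_two hm F).of_equiv e
    by_cases h3 : m = 4 ∧ p = 3
    · obtain ⟨rfl, rfl⟩ := h3
      exact (noV_D4 F).of_equiv e
    · exact (noV_of_out (rk1_OPlus hm hp fun h4 h5 => h3 ⟨h4, h5⟩)).of_equiv e
  · obtain ⟨F, _, _, _, m, a, b, hm, hab, ⟨e⟩⟩ := h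
    exact (noV_of_out (rk1_OMinus hm a b hab)).of_equiv e
  · obtain ⟨F, _, _, _, ⟨-, ⟨e⟩⟩ | ⟨⟨e⟩⟩ | ⟨⟨e⟩⟩ | ⟨⟨e⟩⟩ | ⟨⟨e⟩⟩⟩ := h
    · exact (noV_G2 F).of_equiv e
    · exact (noV_F4 F).of_equiv e
    · exact (noV_E6 F).of_equiv e
    · exact (noV_E7 F).of_equiv e
    · exact (noV_E8 F).of_equiv e
  · obtain ⟨K, _, _, _, q, hq, ⟨hK, ⟨e⟩⟩ | ⟨hK, ⟨e⟩⟩⟩ := h
    · exact (noV_twistedE6 hq hK).of_equiv e
    · exact (noV_twistedD4 hq hK).of_equiv e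
  · obtain ⟨K, _, _, m, hm, hK, ⟨e⟩⟩ := h
    exact (noV_of_out (rk1_Sz hm hK)).of_equiv e
  · obtain ⟨K, _, _, m, hm, hK, ⟨e⟩⟩ := h
    exact (noV_of_out (rk1_2F4 hm hK)).of_equiv e
  · obtain ⟨K, _, _, m, hm, hK, ⟨e⟩⟩ := h
    exact (noV_of_out (rk1_Ree hm hK)).of_equiv e

end Cfsg.Agent.TID.KD
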