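import Mathlib
import Cfsg.Agent.H400.LieLocal
import Cfsg.Agent.OddHalf.Small.RankOne
import Cfsg.Agent.Lib.Cores
import Cfsg.Agent.TID.GDefs
import Cfsg.Agent.TID.KD.Rows

/-!
# TID, row KDef (helper2)

* `inf_ne_bot` : if `NoV p S` then `D ∩ S ≠ 1`;
* `cenP_of_loc` : if `S` has local characteristic `p` and `D ∩ S ≠ 1` then `C_S(D)` is a `p`-group;
* `kDef : TID.KDef`.
-/

set_option autoImplicit false
set_option linter.unusedSectionVars false

namespace Cfsg.Agent.TID.KD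

open Cfsg Subgroup
open Cfsg.Agent.BpLieP.Big (LocChar)
open scoped Pointwise

universe u

variable {p : ℕ} [Fact p.Prime] {X : Type u} [Group X] {S D : Subgroup X}

/-- an element which centralizes a non-identity element of a TI subgroup normalizes it -/
theorem mem_normalizer_of_comm (h : TI D) {v c : X} (hv : v ∈ D) (hv1 : v ≠ 1) (hc : c * v * c⁻¹ = v) :
    c ∈ normalizer (D : Set X) := by
  by_contra hn
  have h1 : v ∈ D ⊓ (MulAut.conj c • D) := by
    refine Subgroup.mem_inf.2 ⟨hv, ?_⟩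
    rw [← hc]
    exact Subgroup.smul_mem_pointwise_smul v (MulAut.conj c) D hv
  rw [h c hn, mem_bot] at h1
  exact hv1 h1

/-- **`D` meets the socle.** -/
theorem inf_ne_bot (h : AS p S D) (hS : NoV.{u, u} p S) : D ⊓ S ≠ ⊥ := by
  intro hb
  have hn := h.soc.normal
  obtain ⟨V, hVD, hV, hc⟩ := h.loc.rk
  have hone : ∀ x ∈ D, x ∈ S → x = 1 := fun x hx hx' => by
    have h1 : x ∈ D ⊓ S := Subgroup.mem_inf.2 ⟨hx, hx'⟩
    rwa [hb, mem_bot] at h1
  have hap : ∀ (v : V) (y : S), ((((MulAut.conjNormal : X →* MulAut S).comp V.subtype) v y : S) : X) =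
      v * y * (v : X)⁻¹ := fun v y => MulAut.conjNormal_apply _ _
  refine hS V ⟨fun a b => hV.1.is_comm.comm a b, fun a => Subtype.ext (hV.2 a a.2), hc⟩
    ((MulAut.conjNormal : X →* MulAut S).comp V.subtype) ⟨fun v y hv => ?_, fun v hv w y hy => ?_⟩
  · have h1 : (y : X)⁻¹ * v ∈ centralizer (S : Set X) := by
      rw [mem_centralizer_iff]
      intro s hs
      have h2 := hap v ⟨s, hs⟩
      rw [hv, MulAut.conj_apply] at h2
      have h3 : (y : X) * s * (y : X)⁻¹ = v * s * (v : X)⁻¹ := h2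
      calc s * ((y : X)⁻¹ * v) = (y : X)⁻¹ * (y * s * (y : X)⁻¹) * v := by group
        _ = _ := by rw [h3]; group
    rw [h.soc.cent, mem_bot, inv_mul_eq_one] at h1
    exact Subtype.ext (hone v (hVD v.2) (by rw [← h1]; exact y.2))
  · have h1 := hap v y
    rw [hy] at h1
    have h2 : (y : X) * v * (y : X)⁻¹ = v := by
      calc (y : X) * v * (y : X)⁻¹ = v * y * (v : X)⁻¹ * v * (y : X)⁻¹ := by rw [← h1]
        _ = _ := by group
    have h3 := mem_normalizer_of_comm h.loc.ti (hVD v.2) (fun e => hv (Subtype.ext e)) h2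
    have h4 : (w : X) * ((y : X) * (w : X)⁻¹ * (y : X)⁻¹) ∈ D :=
      mul_mem (hVD w.2) ((mem_normalizer_iff.1 h3 _).1 (inv_mem (hVD w.2)))
    have h5 : (w : X) * ((y : X) * (w : X)⁻¹ * (y : X)⁻¹) ∈ S := by
      have e : (w : X) * ((y : X) * (w : X)⁻¹ * (y : X)⁻¹) = w * y * (w : X)⁻¹ * (y : X)⁻¹ := by group
      rw [e]
      exact mul_mem (hn.conj_mem _ y.2 _) (inv_mem y.2)
    have h6 := hone _ h4 h5
    apply Subtype.ext
    rw [hap]
    calc (w : X) * y * (w : X)⁻¹ = w * ((y : X) * (w : X)⁻¹ * (y : X)⁻¹) * y := by group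
      _ = _ := by rw [h6, one_mul]

/-- **The centralizer in the socle.** -/
theorem cenP_of_loc [Finite X] [S.Normal] (hD : IsPGroup p D) (hr : Rad p D) (hloc : LocChar p S) (h1 : D ⊓ S ≠ ⊥) :
    CenP p S D := by
  obtain ⟨D', hD'⟩ : ∃ D' : Subgroup S, D' = D.subgroupOf S := ⟨_, rfl⟩
  have hD'mem : ∀ x : S, x ∈ D' ↔ (x : X) ∈ D := fun x => by rw [hD', mem_subgroupOf]
  have hD'p : IsPGroup p D' := by
    rw [hD']
    exact hD.comap_subtype
  have hD'1 : D' ≠ ⊥ := by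
    intro h
    apply h1
    rw [eq_bot_iff]
    intro x hx
    have h2 : (⟨x, hx.2⟩ : S) ∈ D' := (hD'mem _).2 hx.1
    rw [h, mem_bot] at h2
    rw [mem_bot]
    exact congrArg Subtype.val h2
  have hchar := hloc D' hD'p hD'1
  obtain ⟨N', hN'⟩ : ∃ N' : Subgroup S, N' = normalizer (D' : Set S) := ⟨_, rfl⟩
  rw [← hN'] at hchar
  have hcharac : (pCore p N').Characteristic := Cfsg.Agent.Lib.Cores.pCore_characteristic p
  obtain ⟨Q, hQ⟩ : ∃ Q : Subgroup X, Q = ((pCore p N').map N'.subtype).map S.subtype := ⟨_, rfl⟩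
  have hQp : IsPGroup p Q := by
    rw [hQ]
    exact ((Cfsg.Agent.Lib.Cores.pCore_isPGroup p).map _).map _
  have hQmem : ∀ x : X, x ∈ Q ↔ ∃ (hxT : x ∈ S) (hxN : (⟨x, hxT⟩ : S) ∈ N'), (⟨⟨x, hxT⟩, hxN⟩ : N') ∈ pCore p N' := by
    intro x
    rw [hQ]
    constructor
    · rintro ⟨_, ⟨y, hy, rfl⟩, rfl⟩
      exact ⟨y.1.2, y.2, hy⟩
    · rintro ⟨h1, h2, h3⟩
      exact ⟨_, ⟨_, h3, rfl⟩, rfl⟩
  have hnorm : ∀ n ∈ normalizer (D : Set X), ∀ x ∈ Q, n * x * n⁻¹ ∈ Q := by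
    intro n hn x hx
    obtain ⟨hxT, hxN, hxp⟩ := (hQmem x).1 hx
    let α : S ≃* S := MulAut.conjNormal n
    have hα : ∀ y : S, ((α y : S) : X) = n * y * n⁻¹ := fun y => MulAut.conjNormal_apply n y
    have hαD : ∀ y : S, y ∈ D' ↔ α y ∈ D' := by
      intro y
      rw [hD'mem, hD'mem, hα]
      exact mem_normalizer_iff.1 hn y
    have hαN : ∀ y : S, y ∈ N' → α y ∈ N' := by
      intro y hy
      rw [hN', mem_normalizer_iff] at hy ⊢
      intro z
      obtain ⟨w, rfl⟩ := α.surjective z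
      rw [← hαD, hy w, hαD, map_mul, map_mul, map_inv]
    have hmap : N'.map α.toMonoidHom = N' := by
      refine Subgroup.eq_of_le_of_card_ge ?_ (Nat.card_congr (N'.equivMapOfInjective _ α.injective).toEquiv).le
      rintro _ ⟨y, hy, rfl⟩
      exact hαN y hy
    let β : N' ≃* N' := (α.subgroupMap N').trans (MulEquiv.subgroupCongr hmap)
    have hβ : ∀ y : N', ((β y : N') : S) = α y := fun y => rfl
    have h1 : (pCore p N').map β.toMonoidHom = pCore p N' := Subgroup.characteristic_iff_map_eq.1 hcharac β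
    have h2 : β ⟨⟨x, hxT⟩, hxN⟩ ∈ pCore p N' := by
      rw [← h1]
      exact ⟨_, hxp, rfl⟩
    rw [hQmem]
    have e : n * x * n⁻¹ = ((β ⟨⟨x, hxT⟩, hxN⟩ : N') : S) := by rw [hβ, hα]
    rw [e]
    exact ⟨(β ⟨⟨x, hxT⟩, hxN⟩ : N').1.2, (β ⟨⟨x, hxT⟩, hxN⟩ : N').2, h2⟩
  have hQD : Q ≤ D := by
    refine hr Q hQp fun n hn => ?_
    rw [mem_normalizer_iff]
    intro x
    refine ⟨hnorm n hn x, fun hx => ?_⟩
    have h2 := hnorm n⁻¹ (inv_mem hn) _ hx
    rwa [show n⁻¹ * (n * x * n⁻¹) * n⁻¹⁻¹ = x by group] at h2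
  refine hQp.to_le fun c hc => ?_
  have hcc : ∀ x ∈ D, x * c = c * x := mem_centralizer_iff.1 hc.2
  have hcN : (⟨c, hc.1⟩ : S) ∈ N' := by
    rw [hN']
    apply centralizer_le_normalizer
    rw [mem_centralizer_iff]
    intro y hy
    exact Subtype.ext (hcc y ((hD'mem y).1 hy))
  refine (hQmem c).2 ⟨hc.1, hcN, hchar ?_⟩
  rw [mem_centralizer_iff]
  intro y hy
  exact Subtype.ext (Subtype.ext (hcc _ (hQD ((hQmem _).2 ⟨y.1.2, y.2, hy⟩))))

theorem locChar_of_lie {G : Type u} [Group G] [Finite G] (hG : IsLieTypeChar p G) : LocChar p G := by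
  by_cases h : p = 2 ∧ Lie.IsoSuzuki G
  · obtain ⟨rfl, h⟩ := h
    exact (Cfsg.Agent.OddHalf.Small.RankOne.sz h).2
  · exact Cfsg.Agent.H400.LieLocal.local_char_of_lie hG h

/-- **Row KDef.** -/
theorem kDef : KDef.{u} := by
  intro p _ X _ _ S D h hS
  have hn := h.soc.normal
  have h1 := inf_ne_bot h (noV_of_lie hS)
  exact ⟨h1, Or.inl (cenP_of_loc h.loc.pgrp h.loc.rad (locChar_of_lie hS) h1)⟩

end Cfsg.Agent.TID.KD
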